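import Groth.Agent.BlowUpLib.Glue
import Mathlib.RingTheory.AdicCompletion.AsTensorProduct
import Mathlib.RingTheory.AdicCompletion.Completeness

/-!
# Descending ideals supported on a closed fibre from a completion of the base
-/

universe u

open CategoryTheory Limits AlgebraicGeometry TensorProduct

namespace Groth.Agent.BlowUp95

theorem map_comap_of_dense {A B : Type u} [CommRing A] [CommRing B] (ψ : A →+* B) (c : A)
    (h : ∀ (n : ℕ) (y : B), ∃ a, y - ψ a ∈ Ideal.span {ψ c ^ n}) (J : Ideal B)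
    (hJ : ψ c ∈ J.radical) : J ≤ (J.comap ψ).map ψ := by
  obtain ⟨n, hn⟩ := hJ
  have hc : ψ c ^ n ∈ (J.comap ψ).map ψ := by
    rw [← map_pow] at hn ⊢
    exact Ideal.mem_map_of_mem _ hn
  intro y hy
  obtain ⟨a, ha⟩ := h n y
  obtain ⟨t, ht⟩ := Ideal.mem_span_singleton'.1 ha
  have ha' : a ∈ J.comap ψ := by
    rw [Ideal.mem_comap, show ψ a = y - t * ψ c ^ n by rw [ht]; ring]
    exact J.sub_mem hy (J.mul_mem_left _ hn)
  rw [show y = ψ a + t * ψ c ^ n by rw [ht]; ring]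
  exact Ideal.add_mem _ (Ideal.mem_map_of_mem _ ha') (Ideal.mul_mem_left _ _ hc)

theorem dense_tensor {R S A : Type u} [CommRing R] [CommRing S] [CommRing A] [Algebra R S]
    [Algebra R A] (ϖ : R)
    (h : ∀ (n : ℕ) (s : S), ∃ r, s - algebraMap R S r ∈ Ideal.span {algebraMap R S ϖ ^ n})
    (n : ℕ) (t : A ⊗[R] S) : ∃ (a : A) (t' : A ⊗[R] S),
      t = a ⊗ₜ 1 + ((algebraMap R A ϖ) ^ n) ⊗ₜ 1 * t' := by
  induction t with
  | zero => exact ⟨0, 0, by simp⟩
  | tmul a s =>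
    obtain ⟨r, hr⟩ := h n s
    obtain ⟨s', hs'⟩ := Ideal.mem_span_singleton'.1 hr
    refine ⟨r • a, a ⊗ₜ s', ?_⟩
    rw [Algebra.TensorProduct.tmul_mul_tmul, one_mul, ← map_pow, ← Algebra.smul_def,
      TensorProduct.smul_tmul, TensorProduct.smul_tmul, ← TensorProduct.tmul_add,
      Algebra.smul_def, Algebra.smul_def, mul_one, map_pow, mul_comm _ s', hs', add_sub_cancel]
  | add x y hx hy =>
    obtain ⟨a, x', rfl⟩ := hx
    obtain ⟨b, y', rfl⟩ := hy
    exact ⟨a + b, x' + y', by rw [TensorProduct.add_tmul]; ring⟩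

/-- An ideal sheaf of the pullback along a `ϖ`-adically dense flat base extension, supported over
`ϖ = 0`, descends. -/
theorem exists_descent {R S : Type u} [CommRing R] [CommRing S] [Algebra R S] [Module.Flat R S]
    (ϖ : R) (h : ∀ (n : ℕ) (s : S), ∃ r, s - algebraMap R S r ∈ Ideal.span {algebraMap R S ϖ ^ n})
    {Y : Scheme.{u}} (q : Y ⟶ Spec (CommRingCat.of R))
    (I : (pullback q (Spec.map (CommRingCat.ofHom (algebraMap R S)))).IdealSheafData)
    (hI : ∀ y ∈ I.support,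
      ϖ ∈ ((pullback.fst q (Spec.map (CommRingCat.ofHom (algebraMap R S))) ≫ q) y).asIdeal) :
    (∀ y ∈ (I.map (pullback.fst q (Spec.map (CommRingCat.ofHom (algebraMap R S))))).support,
        ϖ ∈ (q y).asIdeal) ∧
      (I.map (pullback.fst q (Spec.map (CommRingCat.ofHom (algebraMap R S))))).comap
        (pullback.fst q (Spec.map (CommRingCat.ofHom (algebraMap R S)))) = I := by
  set π := pullback.fst q (Spec.map (CommRingCat.ofHom (algebraMap R S))) with hπ
  have : IsAffineHom π := MorphismProperty.pullback_fst _ _ inferInstance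
  refine ⟨fun y hy ↦ ?_, le_antisymm (Scheme.IdealSheafData.le_map_iff_comap_le.1 le_rfl) ?_⟩
  · rw [← SetLike.mem_coe, Scheme.IdealSheafData.support_map] at hy
    have hcl : IsClosed (q ⁻¹' PrimeSpectrum.zeroLocus {ϖ}) :=
      (PrimeSpectrum.isClosed_zeroLocus _).preimage q.continuous
    exact Set.singleton_subset_iff.1 (hcl.closure_subset_iff.2 (by
      rintro _ ⟨z, hz, rfl⟩
      exact Set.singleton_subset_iff.2 (hI z hz)) hy)
  refine Scheme.IdealSheafData.le_of_iSup_eq_top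
    (fun U : Y.affineOpens ↦ ⟨π ⁻¹ᵁ U.1, U.2.preimage π⟩) ?_ fun U ↦ ?_
  · exact top_le_iff.1 fun z _ ↦ by
      obtain ⟨_, ⟨U, hU, rfl⟩, hz, -⟩ := Y.isBasis_affineOpens.exists_subset_of_mem_open
        (Set.mem_univ (π z)) isOpen_univ
      exact TopologicalSpace.Opens.mem_iSup.2 ⟨⟨U, hU⟩, hz⟩
  rw [ModPairLib.ideal_comap _ π U ⟨_, U.2.preimage π⟩ le_rfl,
    Scheme.IdealSheafData.ideal_map_of_isAffineHom, ← Scheme.Hom.app_eq_appLE]
  set W : (pullback q (Spec.map (CommRingCat.ofHom (algebraMap R S)))).affineOpens :=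
    ⟨π ⁻¹ᵁ U.1, U.2.preimage π⟩
  set φA := BlowUpLib.strHom q U.1 with hφA
  let := φA.toAlgebra
  have hq : Spec.map (CommRingCat.ofHom (algebraMap R Γ(Y, U.1))) = U.2.fromSpec ≫ q :=
    BlowUpLib.SpecMap_strHom q U
  let m₀ := pullback.map
    (Spec.map (CommRingCat.ofHom (algebraMap R Γ(Y, U.1))))
    (Spec.map (CommRingCat.ofHom (algebraMap R S))) q
    (Spec.map (CommRingCat.ofHom (algebraMap R S))) U.2.fromSpec (𝟙 _) (𝟙 _)
    (by rw [Category.comp_id]; exact hq) (by simp)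
  let m := (pullbackSpecIso R Γ(Y, U.1) S).inv ≫ m₀
  have hm : m ≫ π = Spec.map (CommRingCat.ofHom
      (Algebra.TensorProduct.includeLeftRingHom : Γ(Y, U.1) →+* Γ(Y, U.1) ⊗[R] S)) ≫ U.2.fromSpec := by
    rw [Category.assoc, pullback.lift_fst, pullbackSpecIso_inv_fst_assoc]
  have hr : m.opensRange = W.1 := by
    rw [Scheme.Hom.opensRange_comp_of_isIso]
    refine TopologicalSpace.Opens.ext ?_
    show Set.range m₀ = _
    rw [Scheme.Pullback.range_map, U.2.range_fromSpec]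
    simp [W, hπ]
  let e₀ : W.1 ≤ ⊤ := le_top
  let ρ := (m.appLE W.1 ⊤ fun z _ ↦ hr ▸ ⟨z, rfl⟩) ≫ (Scheme.ΓSpecIso _).hom
  have hρ : Function.Bijective ρ.hom := by
    have : IsIso (m.appLE W.1 ⊤ fun z _ ↦ hr ▸ ⟨z, rfl⟩) := by
      have h1 : W = ⟨m ''ᵁ ⊤, (isAffineOpen_top _).image_of_isOpenImmersion m⟩ :=
        Subtype.ext (by rw [← hr]; exact (m.image_top_eq_opensRange).symm)
      have h2 : IsIso (m.appLE (m ''ᵁ ⊤) ⊤ (m.preimage_image_eq ⊤).ge) := by
        rw [← m.appIso_hom' ⊤]; infer_instance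
      revert h2
      generalize (m.preimage_image_eq ⊤).ge = e
      revert e
      rw [show m ''ᵁ ⊤ = W.1 from (congrArg Subtype.val h1).symm]
      exact fun _ h2 ↦ h2
    exact ConcreteCategory.bijective_of_isIso ρ
  have hψ : π.app U.1 ≫ ρ = CommRingCat.ofHom
      (Algebra.TensorProduct.includeLeftRingHom : Γ(Y, U.1) →+* Γ(Y, U.1) ⊗[R] S) := by
    rw [Scheme.Hom.app_eq_appLE, ← Category.assoc, Scheme.Hom.appLE_comp_appLE]
    simp only [hm]
    rw [Scheme.Hom.comp_appLE, U.2.fromSpec_app_self]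
    simp only [Category.assoc]
    rw [Scheme.Hom.map_appLE_assoc]
    show _ ≫ (Spec.map _).appLE ⊤ ((Spec.map _) ⁻¹ᵁ ⊤) le_rfl ≫ _ = _
    rw [← Scheme.Hom.app_eq_appLE]
    show _ ≫ (Spec.map _).appTop ≫ _ = _
    rw [← Scheme.ΓSpecIso_inv_naturality_assoc, Iso.inv_hom_id, Category.comp_id]
  have hkey : ∀ x, ρ.hom ((π.app U.1).hom x) = x ⊗ₜ[R] (1 : S) := fun x ↦ by
    exact DFunLike.congr_fun (congrArg CommRingCat.Hom.hom hψ) x
  refine map_comap_of_dense (π.app U.1).hom (φA ϖ) (fun n y ↦ ?_) _ ?_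
  · obtain ⟨a, t', ht⟩ := dense_tensor (A := Γ(Y, U.1)) ϖ h n (ρ.hom y)
    obtain ⟨w, rfl⟩ := hρ.2 t'
    refine ⟨a, Ideal.mem_span_singleton'.2 ⟨w, hρ.1 ?_⟩⟩
    rw [map_sub, map_mul, map_pow, hkey, hkey, Algebra.TensorProduct.tmul_pow, one_pow, ht,
      add_sub_cancel_left, mul_comm]
    rfl
  · set c := (π.app U.1).hom (φA ϖ)
    rw [← Ideal.span_singleton_le_iff_mem, ← PrimeSpectrum.zeroLocus_subset_zeroLocus_iff,
      PrimeSpectrum.zeroLocus_span]
    refine (Set.image_subset_image_iff W.2.fromSpec.isOpenEmbedding.injective).1 ?_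
    erw [W.2.fromSpec_image_zeroLocus, W.2.fromSpec_image_zeroLocus]
    rintro z ⟨hz, hzW⟩
    refine ⟨?_, hzW⟩
    rw [SetLike.mem_coe] at hzW
    rw [Scheme.mem_zeroLocus_iff]
    rintro f (rfl : f = c)
    have hs : z ∈ I.support := (I.mem_support_iff_of_mem (U := W) hzW).2 hz
    intro hzc
    have h2 : (π z) ∈ Y.basicOpen (φA ϖ) := by
      have := hzc
      rw [← Scheme.preimage_basicOpen] at this
      exact this
    rw [show φA ϖ = (q.appLE ⊤ U.1 le_top).hom ((Scheme.ΓSpecIso (CommRingCat.of R)).inv.hom ϖ) from rfl,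
      Scheme.Hom.appLE, CommRingCat.hom_comp, RingHom.comp_apply, Scheme.basicOpen_res,
      ← Scheme.preimage_basicOpen] at h2
    have h3 : q (π z) ∈ (Spec (CommRingCat.of R)).basicOpen
        ((Scheme.ΓSpecIso (CommRingCat.of R)).inv.hom ϖ) := h2.2
    rw [basicOpen_eq_of_affine'] at h3
    apply (PrimeSpectrum.mem_basicOpen _ _).1 h3
    have : (Scheme.ΓSpecIso (CommRingCat.of R)).hom.hom ((Scheme.ΓSpecIso (CommRingCat.of R)).inv.hom ϖ) = ϖ :=
      (Scheme.ΓSpecIso (CommRingCat.of R)).commRingCatIsoToRingEquiv.apply_symm_apply ϖ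
    rw [this]
    exact hI z hs

theorem dense_adicCompletion {R : Type u} [CommRing R] (ϖ : R) (n : ℕ)
    (s : AdicCompletion (Ideal.span {ϖ}) R) :
    ∃ r, s - algebraMap R (AdicCompletion (Ideal.span {ϖ}) R) r ∈
      Ideal.span {algebraMap R (AdicCompletion (Ideal.span {ϖ}) R) ϖ ^ n} := by
  obtain ⟨r, hr⟩ := Submodule.mkQ_surjective _ (AdicCompletion.eval (Ideal.span {ϖ}) R n s)
  have h0 : AdicCompletion.eval (Ideal.span {ϖ}) R n (s - algebraMap R (AdicCompletion (Ideal.span {ϖ}) R) r) = 0 := by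
    rw [map_sub, sub_eq_zero]
    exact hr.symm
  have h1 : s - algebraMap R (AdicCompletion (Ideal.span {ϖ}) R) r ∈
      Ideal.span {ϖ} ^ n • (⊤ : Submodule R (AdicCompletion (Ideal.span {ϖ}) R)) := by
    rw [AdicCompletion.pow_smul_top_eq_ker_eval ⟨{ϖ}, by simp⟩]
    exact h0
  rw [Ideal.span_singleton_pow, Submodule.ideal_span_singleton_smul] at h1
  obtain ⟨t, -, ht⟩ := h1
  refine ⟨r, Ideal.mem_span_singleton'.2 ⟨t, ?_⟩⟩
  rw [← ht, ← map_pow, mul_comm, ← Algebra.smul_def]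
  rfl

end Groth.Agent.BlowUp95
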