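import Mathlib
import Groth.Agent.ModPairLib.Limit
import Groth.Agent.BlowUpLib.Local

/-!
# Integral closedness in the interior goes up along smooth morphisms
-/

universe u

open CategoryTheory AlgebraicGeometry TensorProduct

namespace Groth.Agent.BlowUp95

theorem integrallyClosedIn_smooth {A B : Type u} [CommRing A] [CommRing B] [Algebra A B]
    [Algebra.Smooth A B] (Aa Bb : Type u) [CommRing Aa] [CommRing Bb] [Algebra A Aa] [Algebra B Bb]
    [Algebra A Bb] [Algebra Aa Bb] [IsScalarTower A B Bb] [IsScalarTower A Aa Bb]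
    [Algebra.IsPushout A B Aa Bb]
    (h : ∀ x : Aa, IsIntegral A x → x ∈ Set.range (algebraMap A Aa))
    (x : Bb) (hx : IsIntegral B x) : x ∈ Set.range (algebraMap B Bb) := by
  let e : B ⊗[A] Aa ≃ₐ[B] Bb := Algebra.IsPushout.equiv A B Aa Bb
  obtain ⟨y, hy⟩ := (TensorProduct.toIntegralClosure_bijective_of_smooth (R := A) (S := B) (B := Aa)).2
    ⟨e.symm x, hx.map e.symm.toAlgHom⟩
  have hy' : ((TensorProduct.toIntegralClosure A B Aa y) : B ⊗[A] Aa) = e.symm x :=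
    congrArg Subtype.val hy
  suffices e.symm x ∈ Set.range (algebraMap B (B ⊗[A] Aa)) by
    obtain ⟨b, hb⟩ := this
    exact ⟨b, e.symm.injective (by rw [AlgEquiv.commutes]; exact hb)⟩
  rw [← hy']
  clear hy hy'
  show _ ∈ (algebraMap B (B ⊗[A] Aa)).range
  induction y using TensorProduct.induction_on with
  | zero => simp
  | add u v hu hv => rw [map_add]; exact add_mem hu hv
  | tmul b z =>
    obtain ⟨r, hr⟩ := h z.1 z.2
    refine ⟨b * algebraMap A B r, ?_⟩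
    show (b * algebraMap A B r) ⊗ₜ[A] (1 : Aa) = b ⊗ₜ[A] (z : Aa)
    rw [← hr, Algebra.algebraMap_eq_smul_one, Algebra.algebraMap_eq_smul_one, mul_smul_comm, mul_one,
      TensorProduct.smul_tmul]

theorem smul_mem_range_of_local {B C : Type u} [CommRing B] [CommRing C] (φ : B →+* C) (t : C)
    (h : ∀ p : Ideal B, p.IsMaximal → ∃ r ∉ p, φ r * t ∈ φ.range) : t ∈ φ.range := by
  let I : Ideal B :=
    { carrier := {r | φ r * t ∈ φ.range}
      add_mem' := fun {a b} ha hb ↦ by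
        show φ (a + b) * t ∈ φ.range
        rw [map_add, add_mul]; exact add_mem ha hb
      zero_mem' := by show φ 0 * t ∈ φ.range; rw [map_zero, zero_mul]; exact zero_mem _
      smul_mem' := fun a b hb ↦ by
        show φ (a * b) * t ∈ φ.range
        rw [map_mul, mul_assoc]; exact mul_mem ⟨a, rfl⟩ hb }
  have hI : I = ⊤ := by
    by_contra hne
    obtain ⟨p, hp, hle⟩ := Ideal.exists_le_maximal I hne
    obtain ⟨r, hr, hr'⟩ := h p hp
    exact hr (hle hr')
  have : φ 1 * t ∈ φ.range := (Ideal.eq_top_iff_one I).1 hI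
  rwa [map_one, one_mul] at this

/-- Integral closedness in the interior is inherited by smooth schemes. -/
theorem integrallyClosed_interior {X Y : Scheme.{u}} (IX : X.IdealSheafData)
    (hX : ModPairLib.IsLocPrincipal IX)
    (hint : ∀ U ∈ X.affineOpens, ∀ s : Γ(X, U ⊓ ModPair.interior IX),
      (X.presheaf.map (homOfLE (inf_le_left : U ⊓ ModPair.interior IX ≤ U)).op).hom.IsIntegralElem s →
        s ∈ Set.range (X.presheaf.map (homOfLE (inf_le_left : U ⊓ ModPair.interior IX ≤ U)).op).hom)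
    (g : Y ⟶ X) [Smooth g] (V : Y.Opens) (hV : IsAffineOpen V)
    (t : Γ(Y, V ⊓ g ⁻¹ᵁ ModPair.interior IX))
    (ht : (Y.presheaf.map (homOfLE (inf_le_left : V ⊓ g ⁻¹ᵁ ModPair.interior IX ≤ V)).op).hom.IsIntegralElem t) :
    t ∈ Set.range (Y.presheaf.map (homOfLE (inf_le_left : V ⊓ g ⁻¹ᵁ ModPair.interior IX ≤ V)).op).hom := by
  let Yo := g ⁻¹ᵁ ModPair.interior IX
  let φ := (Y.presheaf.map (homOfLE (inf_le_left : V ⊓ Yo ≤ V)).op).hom
  refine smul_mem_range_of_local φ t fun p hp ↦ ?_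
  let q : PrimeSpectrum Γ(Y, V) := ⟨p, hp.isPrime⟩
  have hy : hV.fromSpec q ∈ V := hV.range_fromSpec.le ⟨q, rfl⟩
  obtain ⟨U, hgU, a, haI, haU⟩ := hX.exists_basicOpen (g (hV.fromSpec q))
  obtain ⟨r, hrU, hyr⟩ := hV.exists_basicOpen_le (V := g ⁻¹ᵁ U.1) ⟨_, hgU⟩ hy
  have hrp : r ∉ p := by
    have h1 : q ∈ hV.fromSpec ⁻¹ᵁ Y.basicOpen r := hyr
    rw [hV.fromSpec_preimage_basicOpen] at h1
    exact h1
  -- the affine situation
  let D := Y.basicOpen r
  have hD : IsAffineOpen D := hV.basicOpen r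
  let f : Γ(X, U.1) →+* Γ(Y, D) := (g.appLE U.1 D hrU).hom
  let b : Γ(Y, D) := f a
  have hDb : D ⊓ Yo = Y.basicOpen b := by
    show D ⊓ g ⁻¹ᵁ ModPair.interior IX = _
    rw [ModPairLib.preimage_interior]
    refine ModPairLib.interior_inter_eq_basicOpen (U := ⟨D, hD⟩) ?_
    rw [ModPairLib.ideal_comap IX g U ⟨D, hD⟩ hrU, haI, Ideal.map_span, Set.image_singleton]
  let ρA := (X.presheaf.map (homOfLE (inf_le_left : U.1 ⊓ ModPair.interior IX ≤ U.1)).op).hom
  let ρB := (Y.presheaf.map (homOfLE (inf_le_left : D ⊓ Yo ≤ D)).op).hom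
  have hle : D ⊓ Yo ≤ g ⁻¹ᵁ (U.1 ⊓ ModPair.interior IX) := fun z hz ↦ ⟨hrU hz.1, hz.2⟩
  let f' := (g.appLE (U.1 ⊓ ModPair.interior IX) (D ⊓ Yo) hle).hom
  have hsq : ρB.comp f = f'.comp ρA := by
    simp only [ρB, f, f', ρA, ← CommRingCat.hom_comp, Scheme.Hom.appLE_map, Scheme.Hom.map_appLE]
  let _ : Algebra Γ(X, U.1) Γ(Y, D) := f.toAlgebra
  let _ : Algebra Γ(X, U.1 ⊓ ModPair.interior IX) Γ(Y, D ⊓ Yo) := f'.toAlgebra
  let _ : Algebra Γ(X, U.1) Γ(Y, D ⊓ Yo) := (ρB.comp f).toAlgebra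
  let _ : Algebra Γ(X, U.1) Γ(X, U.1 ⊓ ModPair.interior IX) := ρA.toAlgebra
  let _ : Algebra Γ(Y, D) Γ(Y, D ⊓ Yo) := ρB.toAlgebra
  have : IsScalarTower Γ(X, U.1) Γ(Y, D) Γ(Y, D ⊓ Yo) := .of_algebraMap_eq' rfl
  have : IsScalarTower Γ(X, U.1) Γ(X, U.1 ⊓ ModPair.interior IX) Γ(Y, D ⊓ Yo) :=
    .of_algebraMap_eq' hsq
  have : IsLocalization.Away a Γ(X, U.1 ⊓ ModPair.interior IX) :=
    U.2.isLocalization_of_eq_basicOpen a (homOfLE inf_le_left) haU
  have hloc : IsLocalization.Away b Γ(Y, D ⊓ Yo) :=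
    hD.isLocalization_of_eq_basicOpen b (homOfLE inf_le_left) hDb
  have : IsLocalization (Algebra.algebraMapSubmonoid Γ(Y, D) (Submonoid.powers a)) Γ(Y, D ⊓ Yo) := by
    have e : Algebra.algebraMapSubmonoid Γ(Y, D) (Submonoid.powers a) = Submonoid.powers b := by
      rw [Algebra.algebraMapSubmonoid, Submonoid.map_powers]; rfl
    rw [e]; exact hloc
  have : Algebra.Smooth Γ(X, U.1) Γ(Y, D) := g.smooth_appLE U.2 hD hrU
  have : Algebra.IsPushout Γ(X, U.1) Γ(Y, D) Γ(X, U.1 ⊓ ModPair.interior IX) Γ(Y, D ⊓ Yo) :=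
    (Algebra.isPushout_of_isLocalization (Submonoid.powers a) Γ(X, U.1 ⊓ ModPair.interior IX)
      Γ(Y, D) Γ(Y, D ⊓ Yo))
  -- restrict `t`
  have hDV : D ⊓ Yo ≤ V ⊓ Yo := inf_le_inf_right _ (Y.basicOpen_le r)
  let res := (Y.presheaf.map (homOfLE hDV).op).hom
  let resD := (Y.presheaf.map (homOfLE (Y.basicOpen_le r)).op).hom
  have hsq' : res.comp φ = ρB.comp resD := by
    simp only [res, φ, ρB, resD, ← CommRingCat.hom_comp, ← Functor.map_comp]; rfl
  have ht' : IsIntegral Γ(Y, D) (res t) := by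
    obtain ⟨P, hP, hPt⟩ := ht
    refine ⟨P.map resD, hP.map _, ?_⟩
    show Polynomial.eval₂ ρB (res t) (P.map resD) = 0
    rw [Polynomial.eval₂_map, ← hsq', ← Polynomial.hom_eval₂]
    exact (congrArg res hPt).trans (map_zero res)
  obtain ⟨s, hs⟩ := integrallyClosedIn_smooth (A := Γ(X, U.1)) (B := Γ(Y, D))
    Γ(X, U.1 ⊓ ModPair.interior IX) Γ(Y, D ⊓ Yo) (fun x hx ↦ hint U.1 U.2 x hx) (res t) ht'
  -- lift back to `V`
  have := hV.isLocalization_basicOpen r
  obtain ⟨⟨c, ⟨_, n, rfl⟩⟩, hc⟩ := IsLocalization.surj (Submonoid.powers r) s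
  have hYo : IsCompact ((V ⊓ Yo : Y.Opens) : Set Y) := by
    have := ModPairLib.isAffineHom_interior (hX.comap g)
    have h1 : IsAffineOpen ((ModPair.interior (IX.comap g)).ι ''ᵁ (ModPair.interior (IX.comap g)).ι ⁻¹ᵁ V) :=
      (hV.preimage _).image_of_isOpenImmersion _
    rw [Scheme.Hom.image_preimage_eq_opensRange_inf, Scheme.Opens.opensRange_ι,
      ← ModPairLib.preimage_interior, inf_comm] at h1
    exact h1.isCompact
  have hbas : Y.basicOpen (φ r) ≤ D ⊓ Yo := by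
    rw [Scheme.basicOpen_res]; exact fun z hz ↦ ⟨hz.2, hz.1.2⟩
  have hzero : TopCat.Presheaf.restrictOpen (φ (r ^ n) * t - φ c) (Y.basicOpen (φ r))
      ((hbas.trans hDV)) = 0 := by
    let res2 := (Y.presheaf.map (homOfLE hbas).op).hom
    show (Y.presheaf.map (homOfLE (hbas.trans hDV)).op).hom (φ (r ^ n) * t - φ c) = 0
    have e1 : (Y.presheaf.map (homOfLE (hbas.trans hDV)).op).hom = res2.comp res := by
      simp only [res2, res, ← CommRingCat.hom_comp, ← Functor.map_comp]; rfl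
    rw [e1, RingHom.comp_apply, map_sub, map_mul, ← RingHom.comp_apply res φ,
      ← RingHom.comp_apply res φ, hsq', RingHom.comp_apply, RingHom.comp_apply, ← hs]
    have hc' : s * resD (r ^ n) = resD c := hc
    show res2 (ρB (resD (r ^ n)) * ρB s - ρB (resD c)) = 0
    rw [← map_mul ρB, mul_comm (resD (r ^ n)), hc', sub_self, map_zero]
  obtain ⟨m, hm⟩ := exists_pow_mul_eq_zero_of_res_basicOpen_eq_zero_of_isCompact Y hYo
    (φ (r ^ n) * t - φ c) (φ r) hzero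
  refine ⟨r ^ (m + n), fun hh ↦ hrp (hp.isPrime.mem_of_pow_mem _ hh), r ^ m * c, ?_⟩
  rw [mul_sub, sub_eq_zero] at hm
  rw [pow_add, map_mul, map_mul, mul_assoc, map_pow φ r m, hm]

end Groth.Agent.BlowUp95
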