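import Groth.Agent.ModPairLib.Dense
import Groth.Agent.ModPairLib.Quot
import Groth.Agent.ModPairLib.Limit
import Groth.Agent.ModPairLib.BlowUp
import Mathlib.AlgebraicGeometry.Morphisms.Finite
import Mathlib.AlgebraicGeometry.Morphisms.Separated

/-!
# A finite birational morphism, an isomorphism off a Cartier divisor, is a blow-up
-/

set_option autoImplicit false
set_option backward.isDefEq.respectTransparency false
set_option backward.isDefEq.respectTransparency.types false
universe u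

open CategoryTheory Limits AlgebraicGeometry TopologicalSpace

namespace Groth.Agent.BlowUp95

variable {X Y T : Scheme.{u}}

/-- Two morphisms over a separated morphism agreeing on a scheme-theoretically dominant part are equal. -/
theorem ext_of_dominant {Z W : Scheme.{u}} (s : Y ⟶ Z) [IsSeparated s] {f g : X ⟶ Y}
    (h : f ≫ s = g ≫ s) (ι : W ⟶ X) [IsSchemeTheoreticallyDominant ι] (hU : ι ≫ f = ι ≫ g) : f = g := by
  let X' : Over Z := Over.mk (f ≫ s)
  let Y' : Over Z := Over.mk s
  let U' : Over Z := Over.mk (ι ≫ f ≫ s)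
  let f' : X' ⟶ Y' := Over.homMk f
  let g' : X' ⟶ Y' := Over.homMk g
  let ι' : U' ⟶ X' := Over.homMk ι
  have : IsSeparated Y'.hom := ‹_›
  have hl : (equalizer.lift ι' (by ext1; exact hU) : U' ⟶ equalizer f' g').left ≫ (equalizer.ι f' g').left = ι := by
    rw [← Over.comp_left, equalizer.lift_ι]; rfl
  have hker : (equalizer.ι f' g').left.ker = ⊥ := by
    refine le_bot_iff.mp ((Scheme.Hom.le_ker_comp
      (equalizer.lift ι' (by ext1; exact hU) : U' ⟶ equalizer f' g').left _).trans ?_)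
    rw [hl]
    exact ι.ker_eq_bot.le
  have : IsIso (equalizer.ι f' g').left := IsClosedImmersion.isIso_iff_ker_eq_bot.mpr hker
  rw [← cancel_epi (equalizer.ι f' g').left]
  exact congr($(equalizer.condition f' g').left)

/-- The algebra of the extension: `B` is the blow-up algebra of `{y | φ y ∈ t B}` in the invertible case. -/
theorem exists_lift_ring {A B R : Type u} [CommRing A] [CommRing B] [CommRing R] (φ : A →+* B)
    (hφ : Function.Injective φ) (t : A) (ht : ∀ b, φ t * b ∈ φ.range) (χ : A →+* R) (e : R)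
    (he : e ∈ nonZeroDivisors R)
    (hJ : ((Ideal.span {φ t}).comap φ).map χ = Ideal.span {e}) :
    ∃ ψ : B →+* R, ψ.comp φ = χ := by
  choose y hy using fun b => ht b
  have hmem : ∀ b, y b ∈ (Ideal.span {φ t}).comap φ := fun b =>
    Ideal.mem_comap.mpr (Ideal.mem_span_singleton'.mpr ⟨b, by rw [hy, mul_comm]⟩)
  have hJle : ∀ x ∈ (Ideal.span {φ t}).comap φ, ∀ x' ∈ (Ideal.span {φ t}).comap φ,
      χ x * χ x' ∈ Ideal.span {χ t} * Ideal.span {e} := by
    intro x hx x' hx'
    obtain ⟨b, hb⟩ := Ideal.mem_span_singleton'.mp (Ideal.mem_comap.mp hx)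
    obtain ⟨b', hb'⟩ := Ideal.mem_span_singleton'.mp (Ideal.mem_comap.mp hx')
    have : x * x' = t * y (b * b') := hφ (by rw [map_mul, map_mul, hy, ← hb, ← hb']; ring)
    rw [← map_mul, this, map_mul]
    exact Ideal.mul_mem_mul (Ideal.mem_span_singleton_self _) (hJ ▸ Ideal.mem_map_of_mem χ (hmem _))
  have h2 : e * e ∈ Ideal.span {χ t} * Ideal.span {e} := by
    have h : e * e ∈ ((Ideal.span {φ t}).comap φ).map χ * ((Ideal.span {φ t}).comap φ).map χ := by
      rw [hJ]; exact Ideal.mul_mem_mul (Ideal.mem_span_singleton_self _) (Ideal.mem_span_singleton_self _)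
    revert h
    rw [Ideal.map, Ideal.span_mul_span']
    refine fun h => Ideal.span_le.mpr ?_ h
    rintro _ ⟨_, ⟨x, hx, rfl⟩, _, ⟨x', hx', rfl⟩, rfl⟩
    exact hJle x hx x' hx'
  rw [Ideal.span_singleton_mul_span_singleton, Ideal.mem_span_singleton'] at h2
  obtain ⟨s, hs⟩ := h2
  have hes : e = s * χ t := by
    have : e * e = e * (s * χ t) := by rw [← hs]; ring
    exact mul_cancel_left_mem_nonZeroDivisors he |>.mp this
  have ht1 : t ∈ (Ideal.span {φ t}).comap φ := Ideal.mem_comap.mpr (Ideal.mem_span_singleton_self _)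
  obtain ⟨q, hq⟩ := Ideal.mem_span_singleton'.mp (hJ ▸ Ideal.mem_map_of_mem χ ht1 : χ t ∈ Ideal.span {e})
  have htn : χ t ∈ nonZeroDivisors R := by
    refine mem_nonZeroDivisors_iff_right.mpr fun z hz => ?_
    refine mem_nonZeroDivisors_iff_right.mp he z ?_
    rw [hes, mul_comm s, ← mul_assoc, hz, zero_mul]
  have hdiv : ∀ b, ∃ r, χ t * r = χ (y b) := fun b => by
    obtain ⟨r, hr⟩ := Ideal.mem_span_singleton'.mp (hJ ▸ Ideal.mem_map_of_mem χ (hmem b) : χ (y b) ∈ Ideal.span {e})
    exact ⟨r * s, by rw [← hr, hes]; ring⟩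
  choose r hr using hdiv
  have cancel : ∀ {u v : R}, χ t * u = χ t * v → u = v := fun h =>
    mul_cancel_left_mem_nonZeroDivisors htn |>.mp h
  refine ⟨{ toFun := r, map_one' := cancel ?_, map_mul' := fun b b' => cancel (cancel ?_),
            map_zero' := cancel ?_, map_add' := fun b b' => cancel ?_ }, RingHom.ext fun a => cancel ?_⟩
  · rw [hr, mul_one, show y 1 = t from hφ (by rw [hy, mul_one])]
  · rw [hr, ← map_mul, show t * y (b * b') = y b * y b' from
      hφ (by rw [map_mul, map_mul, hy, hy, hy]; ring), map_mul, ← hr, ← hr]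
    ring
  · rw [hr, mul_zero, show y 0 = 0 from hφ (by rw [hy, mul_zero, map_zero]), map_zero]
  · rw [hr, mul_add, hr, hr, ← map_add, show y (b + b') = y b + y b' from
      hφ (by rw [map_add, hy, hy, hy, mul_add])]
  · show χ t * r (φ a) = χ t * χ a
    rw [hr, ← map_mul, show y (φ a) = t * a from hφ (by rw [hy, map_mul])]

theorem isIso_restrict_of_le {f : X ⟶ Y} {U D : Y.Opens} (hD : D ≤ U) [IsIso (f ∣_ U)] :
    IsIso (f ∣_ D) := by
  have heq : U.ι ''ᵁ (U.ι ⁻¹ᵁ D) = D := by
    rw [Scheme.Hom.image_preimage_eq_opensRange_inf, Scheme.Opens.opensRange_ι]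
    exact inf_eq_right.2 hD
  exact (MorphismProperty.arrow_mk_iso_iff (MorphismProperty.isomorphisms Scheme.{u})
    (morphismRestrictRestrict _ _ _ ≪≫ morphismRestrictEq _ heq)).1
    (IsZariskiLocalAtTarget.restrict (P := MorphismProperty.isomorphisms Scheme.{u})
      (f := f ∣_ U) ‹_› _)

/-- For a finite morphism, an isomorphism where `a` is invertible, a power of `a` conducts. -/
theorem exists_pow_mul_mem_range (f : X ⟶ Y) [IsFinite f] (U : Y.affineOpens) (a : Γ(Y, U.1))
    (hiso : IsIso (f ∣_ Y.basicOpen a)) :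
    ∃ n : ℕ, ∀ m, n ≤ m → ∀ b : Γ(X, f ⁻¹ᵁ U.1),
      (f.app U.1).hom (a ^ m) * b ∈ (f.app U.1).hom.range := by
  classical
  set φ := (f.app U.1).hom with hφ
  have one : ∀ b : Γ(X, f ⁻¹ᵁ U.1), ∃ n : ℕ, φ (a ^ n) * b ∈ φ.range := by
    intro b
    have hD : IsAffineOpen (Y.basicOpen a) := U.2.basicOpen a
    have hbij : IsIso (f.app (Y.basicOpen a)) :=
      (isIso_morphismRestrict_iff_isIso_app f hD).1 hiso
    have hle : f ⁻¹ᵁ Y.basicOpen a ≤ f ⁻¹ᵁ U.1 := f.preimage_mono (Y.basicOpen_le a)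
    letI := (Y.presheaf.map (homOfLE (Y.basicOpen_le a)).op).hom.toAlgebra
    haveI : IsLocalization.Away a Γ(Y, Y.basicOpen a) := U.2.isLocalization_basicOpen a
    letI := (X.presheaf.map (homOfLE hle).op).hom.toAlgebra
    haveI : IsLocalization.Away (φ a) Γ(X, f ⁻¹ᵁ Y.basicOpen a) :=
      (U.2.preimage f).isLocalization_of_eq_basicOpen _ _ (Scheme.preimage_basicOpen f a)
    obtain ⟨z, hz⟩ := (ConcreteCategory.bijective_of_isIso (f.app (Y.basicOpen a))).2
      (algebraMap _ Γ(X, f ⁻¹ᵁ Y.basicOpen a) b)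
    obtain ⟨⟨x, ⟨_, k, rfl⟩⟩, hx⟩ := IsLocalization.surj (Submonoid.powers a) z
    have nat : ∀ y, (f.app (Y.basicOpen a)).hom (algebraMap Γ(Y, U.1) _ y) =
        algebraMap _ Γ(X, f ⁻¹ᵁ Y.basicOpen a) (φ y) := fun y =>
      congr($(f.naturality (homOfLE (Y.basicOpen_le a)).op).hom y)
    have h1 := congrArg (f.app (Y.basicOpen a)).hom hx
    rw [map_mul, nat, nat, hz, ← map_mul] at h1
    obtain ⟨⟨_, m, rfl⟩, hm⟩ := (IsLocalization.eq_iff_exists (Submonoid.powers (φ a)) _).mp h1
    refine ⟨m + k, ⟨a ^ m * x, ?_⟩⟩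
    have hm' : φ a ^ m * (b * φ (a ^ k)) = φ a ^ m * φ x := hm
    rw [map_mul, map_pow, ← hm', map_pow, map_pow, pow_add]
    ring
  choose n hn using one
  letI : Algebra Γ(Y, U.1) Γ(X, f ⁻¹ᵁ U.1) := φ.toAlgebra
  haveI hfin : Module.Finite Γ(Y, U.1) Γ(X, f ⁻¹ᵁ U.1) := f.finite_app U.1 U.2
  obtain ⟨T, hT⟩ := hfin.fg_top
  refine ⟨T.sup n, fun m hm b => ?_⟩
  have hb : b ∈ Submodule.span Γ(Y, U.1) (T : Set Γ(X, f ⁻¹ᵁ U.1)) := hT ▸ Submodule.mem_top
  induction hb using Submodule.span_induction with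
  | mem x hx =>
    obtain ⟨w, hw⟩ := hn x
    refine ⟨a ^ (m - n x) * w, ?_⟩
    rw [map_mul, hw, ← mul_assoc, ← map_mul, ← pow_add, Nat.sub_add_cancel ((Finset.le_sup hx).trans hm)]
  | zero => exact ⟨0, by rw [map_zero, mul_zero]⟩
  | add x y _ _ hx hy => rw [mul_add]; exact add_mem hx hy
  | smul r x _ hx =>
    obtain ⟨w, hw⟩ := hx
    refine ⟨r * w, ?_⟩
    rw [map_mul, hw, Algebra.smul_def]
    show φ r * _ = _ * (φ r * x)
    ring

theorem isEffCartier_pow' {E : X.IdealSheafData} (hE : BlowUp.IsEffCartierIdeal E) (n : ℕ) :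
    BlowUp.IsEffCartierIdeal (E ^ (n + 1)) := by
  induction n with
  | zero => rw [zero_add, pow_one]; exact hE
  | succ n ih => rw [pow_succ]; exact ModPairLib.isEffCartier_mul ih hE

theorem comap_pow' (f : X ⟶ Y) (E : Y.IdealSheafData) (n : ℕ) :
    (E ^ (n + 1)).comap f = E.comap f ^ (n + 1) := by
  induction n with
  | zero => simp
  | succ n ih => rw [pow_succ, ModPairLib.ideal_comap_mul, ih, ← pow_succ]

/-- A finite birational morphism which is an isomorphism off an effective Cartier divisor is a blow-up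
in a centre with the same support. -/
theorem exists_isBlowUp_of_finite [CompactSpace Y] [IsReduced X] (f : X ⟶ Y) [IsFinite f]
    (L : Y.IdealSheafData) (hL : BlowUp.IsEffCartierIdeal L) (hiso : IsIso (f ∣_ ModPair.interior L))
    (hdense : Dense ((f ⁻¹ᵁ ModPair.interior L : X.Opens) : Set X)) :
    ∃ J : Y.IdealSheafData, J.support = L.support ∧ BlowUp.IsBlowUp f J := by
  classical
  have hLp := ModPairLib.isLocPrincipal_of_isEffCartier hL
  haveI := ModPairLib.isAffineHom_interior hLp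
  haveI := ModPairLib.isSchemeTheoreticallyDominant_interior hL
  choose U hxU a ha hUa using hLp.exists_basicOpen
  obtain ⟨S, hS⟩ := isCompact_univ.elim_finite_subcover (fun x : Y => ((U x).1 : Set Y))
    (fun x => (U x).1.2) fun x _ => Set.mem_iUnion.mpr ⟨x, hxU x⟩
  have hn : ∀ x, ∃ n : ℕ, ∀ m, n ≤ m → ∀ b : Γ(X, f ⁻¹ᵁ (U x).1),
      (f.app (U x).1).hom (a x ^ m) * b ∈ (f.app (U x).1).hom.range := fun x =>
    exists_pow_mul_mem_range f (U x) (a x) (isIso_restrict_of_le (U := ModPair.interior L)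
      ((hUa x).ge.trans inf_le_right))
  choose n hn using hn
  let N := S.sup n + 1
  let J : Y.IdealSheafData := ((L ^ N).comap f).map f
  have hJ : ∀ V : Y.affineOpens, J.ideal V =
      (((L ^ N).ideal V).map (f.app V.1).hom).comap (f.app V.1).hom := fun V => by
    rw [Scheme.IdealSheafData.ideal_map_of_isAffineHom,
      ModPairLib.ideal_comap (L ^ N) f V ⟨_, V.2.preimage f⟩ le_rfl, Scheme.Hom.appLE_eq_app]
  haveI : IsSchemeTheoreticallyDominant f := ⟨le_bot_iff.mp ((Scheme.Hom.le_ker_comp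
      (f ⁻¹ᵁ ModPair.interior L).ι f).trans (by
        rw [← morphismRestrict_ι, Scheme.Hom.ker_eq_bot]))⟩
  have hinj : ∀ V : Y.Opens, Function.Injective (f.app V).hom := fun V => f.app_injective V
  have hdom : IsSchemeTheoreticallyDominant (f ⁻¹ᵁ ModPair.interior L).ι := by
    haveI : IsDominant (f ⁻¹ᵁ ModPair.interior L).ι := ⟨by rw [DenseRange, Scheme.Opens.range_ι]; exact hdense⟩
    exact .of_isDominant _
  haveI := hdom
  haveI : Surjective f := surjective_of_isDominant_of_isClosed_range f f.isClosedMap.isClosed_range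
  have hsupp : J.support = L.support := by
    refine TopologicalSpace.Closeds.ext ?_
    rw [Scheme.IdealSheafData.support_map, TopologicalSpace.Closeds.coe_closure,
      Scheme.IdealSheafData.support_comap, TopologicalSpace.Closeds.coe_preimage,
      Scheme.IdealSheafData.support_pow_succ, Set.image_preimage_eq _ f.surjective,
      L.support.isClosed.closure_eq]
  have hint : ModPair.interior J = ModPair.interior L := congrArg TopologicalSpace.Closeds.compl hsupp
  have hE : BlowUp.IsEffCartierIdeal (L.comap f) := (ModPairLib.comap_preimage_dense L hL f).2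
  have hJf : J.comap f = (L ^ N).comap f := le_antisymm
    (Scheme.IdealSheafData.le_map_iff_comap_le.mp le_rfl)
    (Scheme.IdealSheafData.comap_mono f (Scheme.IdealSheafData.le_map_iff_comap_le.mpr le_rfl))
  refine ⟨J, hsupp, ?_, fun T g hg => ?_⟩
  · rw [hJf, comap_pow']; exact isEffCartier_pow' hE _
  · have huniq : ∀ {T' : Scheme.{u}} (h h' : T' ⟶ X), h ≫ f = h' ≫ f →
        BlowUp.IsEffCartierIdeal (J.comap (h ≫ f)) → h = h' := by
      intro T' h h' hh hc
      haveI := ModPairLib.isSchemeTheoreticallyDominant_interior hc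
      rw [← ModPairLib.preimage_interior, hint] at this
      refine ext_of_dominant f hh (((h ≫ f) ⁻¹ᵁ ModPair.interior L).ι) ?_
      have hr : ∀ k : T' ⟶ X, k ≫ f = h ≫ f → Set.range (((h ≫ f) ⁻¹ᵁ ModPair.interior L).ι ≫ k) ⊆
          Set.range (f ⁻¹ᵁ ModPair.interior L).ι := by
        rintro k hk _ ⟨t, rfl⟩
        rw [Scheme.Opens.range_ι]
        show (k ≫ f) t.1 ∈ ModPair.interior L
        rw [hk]; exact t.2
      rw [← IsOpenImmersion.lift_fac _ _ (hr h rfl), ← IsOpenImmersion.lift_fac _ _ (hr h' hh.symm)]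
      congr 1
      rw [← cancel_mono (f ∣_ ModPair.interior L), ← cancel_mono (ModPair.interior L).ι,
        Category.assoc, Category.assoc, morphismRestrict_ι, IsOpenImmersion.lift_fac_assoc,
        IsOpenImmersion.lift_fac_assoc, Category.assoc, Category.assoc, hh]
    have hloc : ∀ t : T, ∃ W : T.Opens, t ∈ W ∧ ∃ h : (W : Scheme.{u}) ⟶ X, h ≫ f = W.ι ≫ g := by
      intro t
      obtain ⟨x, hxS, htx⟩ := Set.mem_iUnion₂.mp (hS (Set.mem_univ (g t)))
      obtain ⟨V, htV, e, -, he⟩ := hg t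
      obtain ⟨W, hW, htW, hWV⟩ := exists_isAffineOpen_mem_and_subset (x := t)
        (U := V.1 ⊓ g ⁻¹ᵁ (U x).1) ⟨htV, htx⟩
      have hWV' : (⟨W, hW⟩ : T.affineOpens) ≤ V := hWV.trans inf_le_left
      have hWU : W ≤ g ⁻¹ᵁ (U x).1 := hWV.trans inf_le_right
      have hJW := ((J.comap g).map_ideal hWV').symm
      rw [he, Ideal.map_span, Set.image_singleton] at hJW
      have hen := ModPairLib.generator_mem_nonZeroDivisors hg hJW
      rw [ModPairLib.ideal_comap J g (U x) ⟨W, hW⟩ hWU, hJ, Scheme.IdealSheafData.ideal_pow, Pi.pow_apply,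
        ha x, Ideal.span_singleton_pow, Ideal.map_span, Set.image_singleton] at hJW
      obtain ⟨ψ, hψ⟩ := exists_lift_ring (f.app (U x).1).hom (hinj _) (a x ^ N)
        (hn x N ((Finset.le_sup hxS).trans (Nat.le_succ _))) (g.appLE (U x).1 W hWU).hom _ hen hJW
      refine ⟨W, htW, hW.isoSpec.hom ≫ Spec.map (CommRingCat.ofHom ψ) ≫ ((U x).2.preimage f).fromSpec, ?_⟩
      rw [Category.assoc, Category.assoc, ← IsAffineOpen.SpecMap_appLE_fromSpec f (U x).2
        ((U x).2.preimage f) le_rfl, ← Spec.map_comp_assoc,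
        show f.appLE (U x).1 (f ⁻¹ᵁ (U x).1) le_rfl ≫ CommRingCat.ofHom ψ = g.appLE (U x).1 W hWU from
          CommRingCat.hom_ext (by rw [Scheme.Hom.appLE_eq_app]; exact hψ),
        IsAffineOpen.SpecMap_appLE_fromSpec g (U x).2 hW hWU, IsAffineOpen.isoSpec_hom_fromSpec_assoc]
    choose W htW h hh using hloc
    let 𝒲 := T.openCoverOfIsOpenCover W (TopologicalSpace.IsOpenCover.mk
      (top_unique fun t _ => TopologicalSpace.Opens.mem_iSup.mpr ⟨t, htW t⟩))
    have hagree : ∀ i j, pullback.fst (𝒲.f i) (𝒲.f j) ≫ h i = pullback.snd (𝒲.f i) (𝒲.f j) ≫ h j := by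
      intro i j
      refine huniq _ _ ?_ ?_
      · rw [Category.assoc, Category.assoc, hh, hh]
        exact pullback.condition_assoc g
      · rw [Category.assoc, hh, ← Category.assoc, Scheme.IdealSheafData.comap_comp]
        haveI : IsOpenImmersion (pullback.fst (𝒲.f i) (𝒲.f j) ≫ (W i).ι) :=
          inferInstanceAs (IsOpenImmersion (pullback.fst (𝒲.f i) (𝒲.f j) ≫ 𝒲.f i))
        haveI := ModPairLib.isSchemeTheoreticallyDominant_interior hg
        haveI := ModPairLib.isAffineHom_interior (ModPairLib.isLocPrincipal_of_isEffCartier hg)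
        haveI := IsSchemeTheoreticallyDominant.of_isPullback
          (isPullback_morphismRestrict (pullback.fst (𝒲.f i) (𝒲.f j) ≫ (W i).ι) (ModPair.interior (J.comap g)))
        exact (ModPairLib.comap_preimage_dense _ hg _).2
    have hG : 𝒲.glueMorphisms h hagree ≫ f = g := 𝒲.hom_ext _ _ fun i => by
      rw [Scheme.Cover.ι_glueMorphisms_assoc]; exact hh i
    exact ⟨_, hG, fun k hk => huniq k _ (hk.trans hG.symm) (by rw [hk]; exact hg)⟩

end Groth.Agent.BlowUp95
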