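import Groth.Agent.BlowUp95.KoszulTensor
import Groth.Agent.DefGlueLib.Rel
import Groth.Prelude.Def_RegImm

/-!
# Blowing up Koszul-regular centres and Tor-independent base change
-/

universe u

open CategoryTheory Limits AlgebraicGeometry TensorProduct

namespace Groth.Agent.BlowUp95

theorem h1_ofFn {R : Type u} [CommRing R] {c : ℕ} (f : Fin c → R)
    (h : CAlgX.IsH1Regular (List.ofFn f).get) : CAlgX.IsH1Regular f := by
  have key : ∀ (m : ℕ) (e : m = c) (g : Fin m → R), (∀ i, g i = f (Fin.cast e i)) →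
      CAlgX.IsH1Regular g → CAlgX.IsH1Regular f := by
    rintro m rfl g hg hg'
    obtain rfl : g = f := funext hg
    exact hg'
  exact key _ List.length_ofFn _ (fun i ↦ by rw [List.get_ofFn]) h

theorem h1_of_koszul {R : Type u} [CommRing R] (rs : List R) (h : LCI.IsKoszulRegularSeq R rs) :
    CAlgX.IsH1Regular rs.get := by
  intro a ha
  have hu : DefGlueLib.dot (fun i : Fin rs.length => rs[i]) a = 0 := by
    rw [← ha]
    simp [DefGlueLib.dot, Fintype.linearCombination_apply]
  refine Submodule.span_le.2 ?_ (DefGlueLib.mem_trivR_of_isKoszulRegularSeq h hu)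
  rintro _ ⟨⟨i, j⟩, rfl⟩
  refine Submodule.subset_span ⟨i, j, ?_⟩
  funext k
  simp [Pi.single_apply]

theorem ideal_eq_top_of_disjoint {X : Scheme.{u}} (C : X.IdealSheafData) (U : X.affineOpens)
    (h : (U.1 : Set X) ⊆ (C.support : Set X)ᶜ) : C.ideal U = ⊤ := by
  have h1 : X.zeroLocus (U := U.1) (C.ideal U) ∩ U.1 = ∅ := by
    rw [← C.coe_support_inter]
    exact Set.eq_empty_iff_forall_notMem.2 fun x hx ↦ h hx.2 hx.1
  have h2 := U.2.fromSpec_image_zeroLocus (C.ideal U : Set Γ(X, U.1))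
  rw [h1, Set.image_eq_empty] at h2
  exact PrimeSpectrum.zeroLocus_empty_iff_eq_top.mp h2

theorem mulTensor_injective_top {A B : Type u} [CommRing A] [CommRing B] [Algebra A B]
    {J : Ideal A} (hJ : J = ⊤) : Function.Injective (mulTensor (B := B) J) := by
  subst hJ
  have : mulTensor (B := B) (⊤ : Ideal A) =
      ((TensorProduct.lid A B).toLinearMap).comp ((Submodule.topEquiv.rTensor B).toLinearMap) :=
    TensorProduct.ext' fun x b ↦ (Algebra.smul_def _ _).symm
  rw [this]
  exact (TensorProduct.lid A B).injective.comp (LinearEquiv.rTensor B Submodule.topEquiv).injective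

variable {X X' B : Scheme.{u}}

/-- The exceptional ideal stays invertible after a Tor-independent base change. -/
theorem isEffCartier_baseChange_koszul (C : X.IdealSheafData)
    (hC : RegImm.IsRegularIdeal .koszul C) (g : X' ⟶ X)
    (hg : ∀ (U : X.affineOpens) (rs : List Γ(X, U.1)), LCI.IsKoszulRegularSeq Γ(X, U.1) rs →
      C.ideal U = Ideal.ofList rs → ∀ (V : X'.affineOpens) (e : V.1 ≤ g ⁻¹ᵁ U.1),
        LCI.IsKoszulRegularSeq Γ(X', V.1) (rs.map fun r => (g.appLE U.1 V.1 e).hom r))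
    {b : B ⟶ X} (hb : BlowUp.IsBlowUp b C) :
    BlowUp.IsEffCartierIdeal ((C.comap b).comap (pullback.fst b g)) := by
  have key : ∀ p : (pullback b g : Scheme.{u}), ∃ (Q : Scheme.{u}) (q : Q ⟶ pullback b g),
      IsOpenImmersion q ∧ p ∈ Set.range q ∧
      BlowUp.IsEffCartierIdeal (((C.comap b).comap (pullback.fst b g)).comap q) := fun p ↦ by
    have hw : g (pullback.snd b g p) = b (pullback.fst b g p) := by
      rw [← Scheme.Hom.comp_apply, ← Scheme.Hom.comp_apply, pullback.condition]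
    obtain ⟨U, hxU, hU⟩ : ∃ U : X.affineOpens, g (pullback.snd b g p) ∈ U.1 ∧
        ∀ (V : X'.affineOpens) (e : V.1 ≤ g ⁻¹ᵁ U.1) (n : ℕ),
          letI := (g.appLE U.1 V.1 e).hom.toAlgebra
          Function.Injective (mulTensor (B := Γ(X', V.1)) (C.ideal U ^ n)) := by
      by_cases hs : g (pullback.snd b g p) ∈ C.support
      · obtain ⟨U, hU, rs, hrs, hI⟩ := hC _ hs
        refine ⟨U, hU, fun V e n ↦ ?_⟩
        let := (g.appLE U.1 V.1 e).hom.toAlgebra
        have h1 := hg U rs hrs hI V e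
        rw [show rs.map (fun r => (g.appLE U.1 V.1 e).hom r) =
          List.ofFn fun i ↦ algebraMap Γ(X, U.1) Γ(X', V.1) (rs.get i) by
            conv_lhs => rw [← List.ofFn_get rs, List.map_ofFn]
            rfl] at h1
        rw [hI, show Ideal.ofList rs = Ideal.span (Set.range rs.get) by
          rw [Set.range_list_get]]
        exact mulTensor_injective_of_h1 rs.get (h1_ofFn _ (h1_of_koszul _ h1)) n
      · obtain ⟨_, ⟨U, hU, rfl⟩, hxU, hsub⟩ := X.isBasis_affineOpens.exists_subset_of_mem_open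
          (show g (pullback.snd b g p) ∈ (C.support : Set X)ᶜ from hs)
          C.support.isClosed.isOpen_compl
        refine ⟨⟨U, hU⟩, hxU, fun V e n ↦ ?_⟩
        refine @mulTensor_injective_top _ _ _ _ (g.appLE U V.1 e).hom.toAlgebra _ ?_
        rw [ideal_eq_top_of_disjoint C ⟨U, hU⟩ hsub, Ideal.top_pow]
    obtain ⟨_, ⟨V, hV, rfl⟩, hxV, e⟩ := X'.isBasis_affineOpens.exists_subset_of_mem_open
      (show pullback.snd b g p ∈ (g ⁻¹ᵁ U.1 : Set X') from hxU) (g ⁻¹ᵁ U.1).isOpen
    obtain ⟨a, j, hj, hx', hjb⟩ := exists_chart hb U (pullback.fst b g p) (hw ▸ hxU)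
    let := (g.appLE U.1 V e).hom.toAlgebra
    have hT : hV.fromSpec ≫ g =
        Spec.map (CommRingCat.ofHom (algebraMap Γ(X, U.1) Γ(X', V))) ≫ U.2.fromSpec :=
      (IsAffineOpen.SpecMap_appLE_fromSpec g U.2 hV e).symm
    let m := pullback.map
      (Spec.map (CommRingCat.ofHom (algebraMap Γ(X, U.1)
        (BlowUp.affineAlgebra Γ(X, U.1) (C.ideal U) (a : Γ(X, U.1))))))
      (Spec.map (CommRingCat.ofHom (algebraMap Γ(X, U.1) Γ(X', V)))) b g j hV.fromSpec
      U.2.fromSpec hjb.symm hT.symm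
    refine ⟨_, m, inferInstance, ?_, ?_⟩
    · rw [Scheme.Pullback.range_map]
      exact ⟨hx', by rw [Set.mem_preimage, hV.range_fromSpec]; exact hxV⟩
    · rw [← Scheme.IdealSheafData.comap_comp, pullback.lift_fst, Scheme.IdealSheafData.comap_comp,
        comap_exceptional_chart a j hjb,
        ← pullbackSpecIso_hom_fst Γ(X, U.1)
          (BlowUp.affineAlgebra Γ(X, U.1) (C.ideal U) (a : Γ(X, U.1))) Γ(X', V),
        Scheme.IdealSheafData.comap_comp]
      refine BlowUpLib.isEffCartier_comap_flat _ ?_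
      rw [comap_idealSheaf, excIdeal, Ideal.map_span, Set.image_singleton]
      exact isEffCartier_idealSheaf _ (tensor_mem_nonZeroDivisors a fun n ↦ hU ⟨V, hV⟩ e n)
  choose Q q hq hp hQ using key
  exact ModPairLib.isEffCartier_of_comap q (fun p ↦ ⟨p, hp p⟩) hQ

end Groth.Agent.BlowUp95
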