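import Groth.Agent.Grass60.GrassRep
import Groth.Agent.Grass60.Charts
import Groth.Agent.BlowUp95.IdealSheafSpec
import Groth.Agent.BlowUp95.KoszulBaseChange
import Groth.Agent.ModPairLib.Coprod

/-!
# The Grassmannian of corank one quotients of the cokernel of an H1-regular section is the blow-up
-/

set_option autoImplicit false
set_option backward.isDefEq.respectTransparency false
set_option backward.isDefEq.respectTransparency.types false
set_option linter.style.haveILetI false
universe u

open CategoryTheory CategoryTheory.Limits AlgebraicGeometry TensorProduct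

namespace Groth.Agent.BlowUp95.GrassBlowUp

open Grass60 Synt29.RepOpen
open Module (Grassmannian)

variable {R : Type u} [CommRing R] {m : ℕ} (f : Fin (m + 1) → R)

/-- The cokernel of the section. -/
abbrev Coker : Type u := (Fin (m + 1) → R) ⧸ Submodule.span R {f}

/-- The image of a basis vector in the cokernel. -/
noncomputable def qm (l : Fin (m + 1)) : Coker f := Submodule.Quotient.mk (Pi.single l 1)

/-- The family of all basis vectors but one. -/
noncomputable def xi (i : Fin (m + 1)) : Fin m → Coker f := fun j => qm f (i.succAbove j)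

theorem sum_smul_qm (v : Fin (m + 1) → R) :
    ∑ l, v l • qm f l = (Submodule.Quotient.mk v : Coker f) := by
  conv_rhs => rw [pi_eq_sum_univ' v, ← Submodule.mkQ_apply, map_sum]
  exact Finset.sum_congr rfl fun l _ => (((Submodule.span R {f}).mkQ).map_smul _ _).symm

theorem sum_f_smul_qm : ∑ l, f l • qm f l = 0 := by
  rw [sum_smul_qm]
  exact (Submodule.Quotient.mk_eq_zero _).mpr (Submodule.mem_span_singleton_self f)

theorem ext_qm {N : Type u} [AddCommGroup N] [Module R N] {u v : Coker f →ₗ[R] N}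
    (h : ∀ l, u (qm f l) = v (qm f l)) : u = v :=
  Submodule.linearMap_qext _ ((Pi.basisFun R (Fin (m + 1))).ext fun l => by
    simpa [qm] using h l)

section Points

variable {A : Type u} [CommRing A] [Algebra R A] (i : Fin (m + 1))

/-- The map with prescribed coordinates of the remaining basis vector. -/
noncomputable def uOf (t : Fin m → A)
    (h : ∀ j, algebraMap R A (f (i.succAbove j)) + algebraMap R A (f i) * t j = 0) :
    Coker f →ₗ[R] (Fin m → A) :=
  (Submodule.span R {f}).liftQ
    (Fintype.linearCombination R (i.insertNth t fun j => (Pi.single j 1 : Fin m → A))) (by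
      rw [Submodule.span_le, Set.singleton_subset_iff]
      refine funext fun k => ?_
      simp [Fintype.linearCombination_apply, Fin.sum_univ_succAbove _ i, Pi.single_apply,
        Algebra.smul_def, Finset.sum_apply]
      rw [add_comm]
      exact h k)

theorem uOf_self (t : Fin m → A) (h) : uOf f i t h (qm f i) = t := by
  simp [uOf, qm, Fintype.linearCombination_apply_single]

theorem uOf_xi (t : Fin m → A) (h) (j : Fin m) :
    uOf f i t h (xi f i j) = Pi.single j 1 := by
  simp [uOf, xi, qm, Fintype.linearCombination_apply_single]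

theorem rel_of_map (u : Coker f →ₗ[R] (Fin m → A)) (hu : ∀ j, u (xi f i j) = Pi.single j 1)
    (j : Fin m) :
    algebraMap R A (f (i.succAbove j)) + algebraMap R A (f i) * u (qm f i) j = 0 := by
  have h : u (∑ l, f l • qm f l) j = 0 := by rw [sum_f_smul_qm, map_zero]; rfl
  rw [Fin.sum_univ_succAbove _ i, map_add, map_sum] at h
  have hu' : ∀ k, u (qm f (i.succAbove k)) = Pi.single k 1 := hu
  simp [Algebra.smul_def, Finset.sum_apply, hu', Pi.single_apply] at h
  rw [add_comm]
  exact h

theorem eq_uOf (u : Coker f →ₗ[R] (Fin m → A)) (hu : ∀ j, u (xi f i j) = Pi.single j 1)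
    (t : Fin m → A) (h) (ht : u (qm f i) = t) : u = uOf f i t h := by
  refine ext_qm f fun l => ?_
  rcases Fin.eq_self_or_eq_succAbove i l with rfl | ⟨j, rfl⟩
  · rw [ht, uOf_self]
  · exact (hu j).trans (uOf_xi f i t h j).symm

/-- Where one coordinate of the section is a non-zero-divisor dividing the others there is exactly one
point. -/
theorem existsUnique_point (hnzd : algebraMap R A (f i) ∈ nonZeroDivisors A)
    (hdiv : ∀ l, algebraMap R A (f l) ∈ Ideal.span {algebraMap R A (f i)}) :
    ∃ N₀ : Grassmannian A (A ⊗[R] Coker f) m, ∀ N, N = N₀ := by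
  choose c hc using fun j => Ideal.mem_span_singleton'.mp (hdiv (i.succAbove j))
  have hrel : ∀ j, algebraMap R A (f (i.succAbove j)) + algebraMap R A (f i) * -c j = 0 := fun j => by
    rw [← hc j]; ring
  refine ⟨Grass60.gr (x := xi f i) (uOf f i (fun j => -c j) hrel) (uOf_xi f i _ hrel), fun N => ?_⟩
  let w : A ⊗[R] Coker f := (1 : A) ⊗ₜ qm f i + ∑ j, c j • ((1 : A) ⊗ₜ xi f i j)
  have hw : algebraMap R A (f i) • w = 0 := by
    have h0 : ((1 : A) ⊗ₜ[R] (∑ l, f l • qm f l)) = 0 := by rw [sum_f_smul_qm, tmul_zero]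
    rw [Fin.sum_univ_succAbove _ i, tmul_add, tmul_sum] at h0
    rw [← h0, smul_add, Finset.smul_sum]
    congr 1
    · rw [algebraMap_smul, tmul_smul]
    · refine Finset.sum_congr rfl fun j _ => ?_
      rw [smul_smul, mul_comm, hc j, algebraMap_smul, tmul_smul]
      rfl
  have hwN : w ∈ N.toSubmodule := by
    rw [← Submodule.Quotient.mk_eq_zero]
    haveI := N.projective_quotient
    obtain ⟨s, hs⟩ := Module.projective_def.mp ‹Module.Projective A ((A ⊗[R] Coker f) ⧸ N.toSubmodule)›
    refine hs.injective (Finsupp.ext fun k => ?_)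
    have h := congrArg (fun z => s (Submodule.Quotient.mk z) k) hw
    simp only [Submodule.Quotient.mk_smul, map_smul, Finsupp.smul_apply, Submodule.Quotient.mk_zero,
      map_zero, Finsupp.zero_apply, smul_eq_mul] at h
    simp [mem_nonZeroDivisors_iff.mp hnzd |>.1 _ h]
  have hI : InMChart (xi f i) N := by
    have hl : ∀ l, (1 : A) ⊗ₜ[R] qm f l ∈ colSpan (xi f i) N.toSubmodule := by
      have hj : ∀ j, (1 : A) ⊗ₜ[R] xi f i j ∈ colSpan (xi f i) N.toSubmodule := fun j =>
        Submodule.mem_sup_right (Submodule.subset_span ⟨j, rfl⟩)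
      intro l
      rcases Fin.eq_self_or_eq_succAbove i l with rfl | ⟨j, rfl⟩
      · rw [show (1 : A) ⊗ₜ[R] qm f l = w - ∑ j, c j • ((1 : A) ⊗ₜ xi f l j) from
          (add_sub_cancel_right _ _).symm]
        exact sub_mem (Submodule.mem_sup_left hwN) (Submodule.sum_mem _ fun j _ => Submodule.smul_mem _ _ (hj j))
      · exact hj j
    refine eq_top_of_one_tmul fun z => ?_
    obtain ⟨v, rfl⟩ := Submodule.Quotient.mk_surjective _ z
    rw [← sum_smul_qm, tmul_sum]
    refine Submodule.sum_mem _ fun l _ => ?_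
    rw [tmul_smul, ← algebraMap_smul A (v l)]
    exact Submodule.smul_mem _ _ (hl l)
  obtain ⟨u, hu, rfl⟩ := InMChart.exists_eq hI
  congr 1
  refine eq_uOf f i u hu _ hrel (funext fun j => ?_)
  have h := rel_of_map f i u hu j
  rw [← hc j] at h
  refine eq_neg_of_add_eq_zero_left ((mem_nonZeroDivisors_iff.mp hnzd).1 _ ?_)
  rw [mul_add, ← h]
  ring

end Points

section ChartRing

variable (i : Fin (m + 1))

/-- The relations of a chart. -/
noncomputable def chartIdeal : Ideal (MvPolynomial (Fin m) R) :=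
  Ideal.span (Set.range fun j : Fin m =>
    MvPolynomial.C (f (i.succAbove j)) + MvPolynomial.C (f i) * MvPolynomial.X j)

/-- The algebra of a chart. -/
abbrev ChartRing : Type u := MvPolynomial (Fin m) R ⧸ chartIdeal f i

theorem chartRel (j : Fin m) :
    algebraMap R (ChartRing f i) (f (i.succAbove j)) +
      algebraMap R (ChartRing f i) (f i) * Ideal.Quotient.mk _ (MvPolynomial.X j) = 0 :=
  (map_add (Ideal.Quotient.mk (chartIdeal f i)) _ _).symm.trans
    (Ideal.Quotient.eq_zero_iff_mem.mpr (Ideal.subset_span ⟨j, rfl⟩))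

/-- The universal point of a chart. -/
noncomputable def uChart : Coker f →ₗ[R] (Fin m → ChartRing f i) :=
  uOf f i (fun j => Ideal.Quotient.mk _ (MvPolynomial.X j)) (chartRel f i)

/-- The chart of the Grassmannian attached to a coordinate. -/
noncomputable def gChart : Chart (mFun R (Coker f) m) where
  P _ N := InMChart (xi f i) N
  C := CommAlgCat.of R (ChartRing f i)
  univ := Grass60.gr (x := xi f i) (uChart f i) (uOf_xi f i _ _)
  mem_univ := gr_inMChart _ _
  map_mem {_ _} φ {N} h := InMChart.map φ.hom h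
  lift {A N} h := by
    obtain ⟨u, hu, rfl⟩ := InMChart.exists_eq h
    let ev : MvPolynomial (Fin m) R →ₐ[R] A := MvPolynomial.aeval (u (qm f i))
    have hev : ∀ r ∈ chartIdeal f i, ev r = 0 := by
      refine fun r hr => (Ideal.span_le (I := RingHom.ker ev.toRingHom)).2 ?_ hr
      rintro _ ⟨j, rfl⟩
      simpa [ev] using rel_of_map f i u hu j
    let ρ : ChartRing f i →ₐ[R] A := Ideal.Quotient.liftₐ _ ev hev
    have hρj : ∀ (ρ' : ChartRing f i →ₐ[R] A) (j), ((ρ'.toLinearMap.compLeft (Fin m)).comp (uChart f i)) (xi f i j) =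
        Pi.single j 1 := by
      intro ρ' j
      funext k
      show ρ' (uChart f i (xi f i j) k) = _
      rw [uChart, uOf_xi]
      by_cases h : k = j
      · subst h; simp
      · simp [Pi.single_eq_of_ne h]
    have hρ : ∀ ρ' : ChartRing f i →ₐ[R] A,
        (ρ'.toLinearMap.compLeft (Fin m)).comp (uChart f i) = u ↔ ρ' = ρ := by
      intro ρ'
      constructor
      · intro h
        refine Ideal.Quotient.algHom_ext _ (MvPolynomial.algHom_ext fun j => ?_)
        have h1 := congrFun (LinearMap.congr_fun h (qm f i)) j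
        simp only [LinearMap.comp_apply, uChart, uOf_self] at h1
        exact h1.trans (MvPolynomial.aeval_X (u (qm f i)) j).symm
      · rintro rfl
        refine ext_qm f fun l => ?_
        rcases Fin.eq_self_or_eq_succAbove i l with rfl | ⟨j, rfl⟩
        · funext j
          simp only [LinearMap.comp_apply, uChart, uOf_self]
          exact MvPolynomial.aeval_X _ j
        · exact (hρj ρ j).trans (hu j).symm
    refine ⟨CommAlgCat.ofHom ρ, ?_, fun ρ' hρ' => CommAlgCat.hom_ext ((hρ ρ'.hom).1 ?_)⟩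
    · show Grassmannian.map ρ (Grass60.gr (uChart f i) _) = _
      rw [map_gr _ ρ _ (hρj ρ)]
      congr 1
      exact (hρ ρ).2 rfl
    · have h1 : Grassmannian.map ρ'.hom (Grass60.gr (uChart f i) (uOf_xi f i _ _)) = Grass60.gr u hu := hρ'
      rw [map_gr _ ρ'.hom _ (hρj ρ'.hom)] at h1
      exact gr_injective _ _ _ h1
  isOpen {A} N L hL ψ h := by
    letI := hL.toField
    exact isOpen_inMChart R (xi f i) ψ.hom N h

/-- Relations in a polynomial ring are trivial if they are so in the coefficient ring. -/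
theorem isH1Regular_polynomial (hf : CAlgX.IsH1Regular f) :
    CAlgX.IsH1Regular fun l => (MvPolynomial.C (f l) : MvPolynomial (Fin m) R) := by
  classical
  intro A hA
  let S := Submodule.span (MvPolynomial (Fin m) R)
    {v : Fin (m + 1) → MvPolynomial (Fin m) R | ∃ p q : Fin (m + 1), v = Pi.single p (MvPolynomial.C (f q)) -
      Pi.single q (MvPolynomial.C (f p))}
  have hC : ∀ a : Fin (m + 1) → R, ∑ l, a l * f l = 0 → (fun l => MvPolynomial.C (a l)) ∈ S := by
    intro a ha
    have h := hf a ha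
    clear ha
    induction h using Submodule.span_induction with
    | mem v hv =>
      obtain ⟨p, q, rfl⟩ := hv
      refine Submodule.subset_span ⟨p, q, funext fun l => ?_⟩
      simp only [Pi.sub_apply, Pi.single_apply, map_sub]
      split_ifs <;> simp
    | zero =>
      rw [show (fun l => MvPolynomial.C ((0 : Fin (m + 1) → R) l)) =
        (0 : Fin (m + 1) → MvPolynomial (Fin m) R) from funext fun l => map_zero _]
      exact S.zero_mem
    | add v w _ _ hv hw => simpa [Pi.add_def] using S.add_mem hv hw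
    | smul r v _ hv => simpa [Pi.smul_def] using S.smul_mem (MvPolynomial.C r) hv
  let T : Finset (Fin m →₀ ℕ) := Finset.univ.biUnion fun l => (A l).support
  have e : A = ∑ μ ∈ T, MvPolynomial.monomial μ (1 : R) • fun l => MvPolynomial.C ((A l).coeff μ) := by
    funext l
    rw [Finset.sum_apply]
    conv_lhs => rw [(A l).as_sum]
    rw [Finset.sum_subset (Finset.subset_biUnion_of_mem (fun l => (A l).support) (Finset.mem_univ l))]
    · refine Finset.sum_congr rfl fun μ _ => ?_
      rw [Pi.smul_apply, smul_eq_mul, mul_comm, MvPolynomial.C_mul_monomial, mul_one]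
    · intro μ _ hμ
      rw [MvPolynomial.notMem_support_iff.mp hμ, map_zero]
  rw [e]
  refine S.sum_mem fun μ _ => S.smul_mem _ (hC _ ?_)
  have h := congrArg (MvPolynomial.coeff μ) hA
  rw [MvPolynomial.coeff_sum, MvPolynomial.coeff_zero] at h
  rw [← h]
  exact Finset.sum_congr rfl fun l _ => by rw [mul_comm, mul_comm (A l), MvPolynomial.coeff_C_mul]

/-- On a chart, the coordinate is a non-zero-divisor. -/
theorem mem_nonZeroDivisors_chartRing (hf : CAlgX.IsH1Regular f) :
    algebraMap R (ChartRing f i) (f i) ∈ nonZeroDivisors (ChartRing f i) := by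
  let ψ : Fin (m + 1) → ChartRing f i :=
    i.insertNth (-1) fun j => Ideal.Quotient.mk _ (MvPolynomial.X j)
  have hψ : ∀ q, algebraMap R (ChartRing f i) (f q) = -ψ q * algebraMap R (ChartRing f i) (f i) := by
    intro q
    rcases Fin.eq_self_or_eq_succAbove i q with rfl | ⟨j, rfl⟩
    · simp [ψ]
    · simp only [ψ, Fin.insertNth_apply_succAbove]
      linear_combination chartRel f i j
  refine mem_nonZeroDivisors_iff_right.mpr fun y hy => ?_
  obtain ⟨y, rfl⟩ := Ideal.Quotient.mk_surjective y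
  have hy' : Ideal.Quotient.mk (chartIdeal f i) (y * MvPolynomial.C (f i)) = 0 := hy
  obtain ⟨a, ha⟩ := Ideal.mem_span_range_iff_exists_fun.mp (Ideal.Quotient.eq_zero_iff_mem.mp hy')
  let A : Fin (m + 1) → MvPolynomial (Fin m) R := i.insertNth (∑ j, a j * MvPolynomial.X j - y) a
  have hA : ∑ l, A l * MvPolynomial.C (f l) = 0 := by
    rw [Fin.sum_univ_succAbove _ i]
    simp only [A, Fin.insertNth_apply_same, Fin.insertNth_apply_succAbove]
    rw [sub_mul, ← ha, Finset.sum_mul, ← Finset.sum_sub_distrib, ← Finset.sum_add_distrib]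
    exact Finset.sum_eq_zero fun j _ => by ring
  let Φ : (Fin (m + 1) → MvPolynomial (Fin m) R) → ChartRing f i := fun v =>
    ∑ l, Ideal.Quotient.mk _ (v l) * ψ l
  have hΦ' : ∀ v ∈ Submodule.span (MvPolynomial (Fin m) R)
      {v : Fin (m + 1) → MvPolynomial (Fin m) R | ∃ p q : Fin (m + 1),
        v = Pi.single p (MvPolynomial.C (f q)) - Pi.single q (MvPolynomial.C (f p))}, Φ v = 0 := by
    intro v hv
    induction hv using Submodule.span_induction with
    | mem v hv =>
      obtain ⟨p, q, rfl⟩ := hv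
      have hsingle : ∀ (r : Fin (m + 1)) (z : MvPolynomial (Fin m) R),
          Φ (Pi.single r z) = Ideal.Quotient.mk _ z * ψ r := fun r z => by
        refine (Finset.sum_eq_single r (fun l _ hl => ?_) (by simp)).trans (by simp)
        simp [Pi.single_eq_of_ne hl]
      have hsub : ∀ v w, Φ (v - w) = Φ v - Φ w := fun v w => by
        simp [Φ, sub_mul, Finset.sum_sub_distrib]
      rw [hsub, hsingle, hsingle]
      show algebraMap R (ChartRing f i) (f q) * ψ p - algebraMap R (ChartRing f i) (f p) * ψ q = 0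
      rw [hψ q, hψ p]
      ring
    | zero => simp [Φ]
    | add v w _ _ hv hw =>
      have : Φ (v + w) = Φ v + Φ w := by simp [Φ, add_mul, Finset.sum_add_distrib]
      rw [this, hv, hw, add_zero]
    | smul r v _ hv =>
      have : Φ (r • v) = Ideal.Quotient.mk (chartIdeal f i) r * Φ v := by
        simp [Φ, Finset.mul_sum, mul_assoc]
      rw [this, hv, mul_zero]
  have hΦ : Φ A = 0 := hΦ' A (isH1Regular_polynomial f hf A hA)
  simp only [Φ] at hΦ
  rw [Fin.sum_univ_succAbove _ i] at hΦ
  simp only [A, ψ, Fin.insertNth_apply_same, Fin.insertNth_apply_succAbove, map_sub, map_sum, map_mul] at hΦ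
  linear_combination hΦ

theorem map_eq_span :
    (Ideal.span (Set.range f)).map (algebraMap R (ChartRing f i)) =
      Ideal.span {algebraMap R (ChartRing f i) (f i)} := by
  rw [Ideal.map_span]
  refine le_antisymm (Ideal.span_le.mpr ?_) (Ideal.span_mono (Set.singleton_subset_iff.mpr
    ⟨f i, ⟨i, rfl⟩, rfl⟩))
  rintro _ ⟨_, ⟨l, rfl⟩, rfl⟩
  rcases Fin.eq_self_or_eq_succAbove i l with rfl | ⟨j, rfl⟩
  · exact Ideal.subset_span rfl
  · rw [eq_neg_of_add_eq_zero_left (chartRel f i j)]
    exact neg_mem (Ideal.mul_mem_right _ _ (Ideal.subset_span rfl))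

end ChartRing

/-- Over a field some chart contains a given point. -/
theorem exists_chart_field {L : Type u} [Field L] [Algebra R L]
    (N : Grassmannian L (L ⊗[R] Coker f) m) : ∃ i, InMChart (xi f i) N := by
  classical
  haveI := N.finite_quotient
  let b : Fin (m + 1) → (L ⊗[R] Coker f) ⧸ N.toSubmodule := fun l =>
    N.toSubmodule.mkQ ((1 : L) ⊗ₜ qm f l)
  have hdim : Module.finrank L ((L ⊗[R] Coker f) ⧸ N.toSubmodule) = m := by
    have h0 := N.rankAtStalk_eq ⟨⊥, Ideal.isPrime_bot⟩
    rwa [Module.rankAtStalk_eq_finrank_of_free] at h0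
  have hli : ¬ LinearIndependent L b := fun h => by
    have := h.fintype_card_le_finrank
    simp [hdim] at this
  obtain ⟨g, hg, i, hgi⟩ := Fintype.not_linearIndependent_iff.mp hli
  have hw : ∑ l, g l • ((1 : L) ⊗ₜ[R] qm f l) ∈ N.toSubmodule := by
    rw [← Submodule.Quotient.mk_eq_zero, ← hg, ← Submodule.mkQ_apply, map_sum]
    exact Finset.sum_congr rfl fun l _ => map_smul _ _ _
  refine ⟨i, ?_⟩
  have hj : ∀ j, (1 : L) ⊗ₜ[R] xi f i j ∈ colSpan (xi f i) N.toSubmodule := fun j =>
    Submodule.mem_sup_right (Submodule.subset_span ⟨j, rfl⟩)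
  have hi : (1 : L) ⊗ₜ[R] qm f i ∈ colSpan (xi f i) N.toSubmodule := by
    rw [Fin.sum_univ_succAbove _ i] at hw
    refine (Submodule.smul_mem_iff _ hgi).mp ?_
    have h2 := sub_mem (Submodule.mem_sup_left hw : _ ∈ colSpan (xi f i) N.toSubmodule)
      (Submodule.sum_mem _ fun j (_ : j ∈ Finset.univ) => Submodule.smul_mem _ (g (i.succAbove j)) (hj j))
    rwa [show (∑ j, g (i.succAbove j) • ((1 : L) ⊗ₜ[R] xi f i j)) =
      ∑ j, g (i.succAbove j) • ((1 : L) ⊗ₜ[R] qm f (i.succAbove j)) from rfl, add_sub_cancel_right] at h2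
  refine eq_top_of_one_tmul fun z => ?_
  obtain ⟨v, rfl⟩ := Submodule.Quotient.mk_surjective _ z
  rw [← sum_smul_qm, tmul_sum]
  refine Submodule.sum_mem _ fun l _ => ?_
  rw [tmul_smul, ← algebraMap_smul L (v l)]
  refine Submodule.smul_mem _ _ ?_
  rcases Fin.eq_self_or_eq_succAbove i l with rfl | ⟨j, rfl⟩
  · exact hi
  · exact hj j

variable {Z : Over (Spec (CommRingCat.of R))} {e : ∀ A, (sp A ⟶ Z) ≃ (mFun R (Coker f) m).obj A}
  (he : IsNat Z (mFun R (Coker f) m) e)

/-- The centre. -/
noncomputable abbrev ctr : (Spec (CommRingCat.of R)).IdealSheafData :=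
  BlowUpLib.centre (Ideal.span (Set.range f))

include he in
theorem isEffCartier_comap (hf : CAlgX.IsH1Regular f) :
    BlowUp.IsEffCartierIdeal ((ctr f).comap Z.hom) := by
  haveI : ∀ i, IsOpenImmersion ((gChart f i).hom e).left := fun i => isOpenImmersion_hom he (gChart f i)
  refine ModPairLib.isEffCartier_of_comap (fun i => ((gChart f i).hom e).left) (fun z => ?_) fun i => ?_
  · obtain ⟨L, hL, p, hp⟩ := exists_field_pt Z z
    letI := hL.toField
    obtain ⟨i, hi⟩ := exists_chart_field f (e L p)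
    have hz : p.left ⟨⊥, Ideal.isPrime_bot⟩ ∈ Set.range ((gChart f i).hom e).left :=
      (mem_range_iff_field he (gChart f i) hL p _).mpr hi
    rw [hp] at hz
    obtain ⟨w, hw⟩ := hz
    exact ⟨i, w, hw⟩
  · rw [← Scheme.IdealSheafData.comap_comp, Over.w ((gChart f i).hom e)]
    show BlowUp.IsEffCartierIdeal ((Curv2.idealSheaf R (Ideal.span (Set.range f))).comap
      (Spec.map (CommRingCat.ofHom (algebraMap R (ChartRing f i)))))
    rw [comap_idealSheaf, map_eq_span]
    exact isEffCartier_idealSheaf _ (mem_nonZeroDivisors_chartRing f i hf)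

/-- Locally, one coordinate generates the pulled back centre. -/
theorem exists_local_gen {Y : Scheme.{u}} {g : Y ⟶ Spec (CommRingCat.of R)}
    (hg : BlowUp.IsEffCartierIdeal ((ctr f).comap g)) (y : Y) :
    ∃ (W : Y.affineOpens) (i : Fin (m + 1)), y ∈ W.1 ∧
      BlowUpLib.strHom g W.1 (f i) ∈ nonZeroDivisors Γ(Y, W.1) ∧
      ∀ l, BlowUpLib.strHom g W.1 (f l) ∈ Ideal.span {BlowUpLib.strHom g W.1 (f i)} := by
  obtain ⟨W, ⟨a, ha⟩, hyW, hW⟩ := BlowUpLib.exists_local_lift (Ideal.span (Set.range f)) hg y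
  set s := BlowUpLib.strHom g W.1
  have hnzd : s a ∈ nonZeroDivisors Γ(Y, W.1) := ModPairLib.generator_mem_nonZeroDivisors hg hW
  have hl : ∀ l, ∃ t, t * s a = s (f l) := fun l => Ideal.mem_span_singleton'.mp (by
    rw [← hW, BlowUpLib.ideal_comap_centre]
    exact Ideal.mem_map_of_mem _ (Ideal.subset_span ⟨l, rfl⟩))
  choose t ht using hl
  obtain ⟨r, hr⟩ := Ideal.mem_span_range_iff_exists_fun.mp ha
  have h1 : ∑ l, s (r l) * t l = 1 := by
    refine sub_eq_zero.mp ((mem_nonZeroDivisors_iff_right.mp hnzd) _ ?_)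
    rw [sub_mul, one_mul, Finset.sum_mul, sub_eq_zero]
    conv_rhs => rw [← hr, map_sum]
    exact Finset.sum_congr rfl fun l _ => by rw [mul_assoc, ht, map_mul]
  obtain ⟨i, hi⟩ : ∃ i, y ∈ Y.basicOpen (t i) := by
    by_contra h
    push Not at h
    have hmem : ∀ l, Y.presheaf.germ W.1 y hyW (t l) ∈ IsLocalRing.maximalIdeal (Y.presheaf.stalk y) :=
      fun l => (IsLocalRing.mem_maximalIdeal _).mpr fun hu => h l ((Y.mem_basicOpen _ _ hyW).mpr hu)
    refine (IsLocalRing.maximalIdeal.isMaximal (Y.presheaf.stalk y)).ne_top ((Ideal.eq_top_iff_one _).mpr ?_)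
    rw [← map_one (Y.presheaf.germ W.1 y hyW).hom, ← h1, map_sum]
    exact Ideal.sum_mem _ fun l _ => by
      rw [map_mul]; exact Ideal.mul_mem_left _ _ (hmem l)
  let D : Y.affineOpens := ⟨Y.basicOpen (t i), W.2.basicOpen _⟩
  let res := (Y.presheaf.map (homOfLE (Y.basicOpen_le (t i))).op).hom
  have hs : BlowUpLib.strHom g D.1 = res.comp s := by
    show BlowUpLib.strHom g (Y.basicOpen (t i)) =
      (Y.presheaf.map (homOfLE (Y.basicOpen_le (t i))).op).hom.comp (BlowUpLib.strHom g W.1)
    rw [BlowUpLib.strHom, BlowUpLib.strHom, ← CommRingCat.hom_comp, Category.assoc, Scheme.Hom.appLE_map]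
  have hu : IsUnit (res (t i)) := RingedSpace.isUnit_res_basicOpen _ (t i)
  have hD : ((ctr f).comap g).ideal D = Ideal.span {res (s a)} := by
    rw [← ((ctr f).comap g).map_ideal (U := D) (V := W) (Y.basicOpen_le _), hW, Ideal.map_span,
      Set.image_singleton]
    rfl
  have hai : Ideal.span {res (s (f i))} = Ideal.span {res (s a)} := by
    rw [← ht i, map_mul, Ideal.span_singleton_mul_left_unit hu]
  refine ⟨D, i, hi, ?_, fun l => ?_⟩
  · rw [hs]
    exact ModPairLib.generator_mem_nonZeroDivisors hg (hD.trans hai.symm)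
  · rw [hs, RingHom.comp_apply, RingHom.comp_apply, hai, Ideal.mem_span_singleton']
    exact ⟨res (t l), by rw [← map_mul, ht]⟩

include he in
theorem unique_local {Y : Scheme.{u}} {g : Y ⟶ Spec (CommRingCat.of R)} (W : Y.affineOpens)
    (i : Fin (m + 1)) (hnzd : BlowUpLib.strHom g W.1 (f i) ∈ nonZeroDivisors Γ(Y, W.1))
    (hdiv : ∀ l, BlowUpLib.strHom g W.1 (f l) ∈ Ideal.span {BlowUpLib.strHom g W.1 (f i)}) :
    ∃ p : Spec Γ(Y, W.1) ⟶ Z.left, p ≫ Z.hom = W.2.fromSpec ≫ g ∧
      ∀ p', p' ≫ Z.hom = W.2.fromSpec ≫ g → p' = p := by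
  letI : Algebra R Γ(Y, W.1) := (BlowUpLib.strHom g W.1).toAlgebra
  let A := CommAlgCat.of R Γ(Y, W.1)
  have hA : (sp A).hom = W.2.fromSpec ≫ g := BlowUpLib.SpecMap_strHom g W
  obtain ⟨N₀, hN₀⟩ := existsUnique_point (A := Γ(Y, W.1)) f i hnzd hdiv
  refine ⟨((e A).symm N₀).left, (Over.w ((e A).symm N₀)).trans hA, fun p' hp' => ?_⟩
  have : (Over.homMk p' (hp'.trans hA.symm) : sp A ⟶ Z) = (e A).symm N₀ :=
    ((e A).symm_apply_eq.mpr (hN₀ _).symm).symm
  exact congrArg CommaMorphism.left this

include he in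
theorem hom_ext {Y : Scheme.{u}} {g : Y ⟶ Spec (CommRingCat.of R)}
    (hg : BlowUp.IsEffCartierIdeal ((ctr f).comap g)) (h h' : Y ⟶ Z.left) (hh : h ≫ Z.hom = g)
    (hh' : h' ≫ Z.hom = g) : h = h' := by
  choose W i hyW hnzd hdiv using exists_local_gen f hg
  refine Scheme.Cover.hom_ext (Y.openCoverOfIsOpenCover (fun y => (W y).1)
    (top_le_iff.mp fun y _ => TopologicalSpace.Opens.mem_iSup.mpr ⟨y, hyW y⟩)) _ _ fun y => ?_
  show (W y).1.ι ≫ h = (W y).1.ι ≫ h'
  obtain ⟨p, -, hp⟩ := unique_local f he (W y) (i y) (hnzd y) (hdiv y)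
  suffices (W y).2.fromSpec ≫ h = (W y).2.fromSpec ≫ h' by
    rw [← IsAffineOpen.isoSpec_hom_fromSpec (W y).2, Category.assoc, Category.assoc, this]
  exact (hp ((W y).2.fromSpec ≫ h) (by rw [Category.assoc, hh])).trans
    (hp ((W y).2.fromSpec ≫ h') (by rw [Category.assoc, hh'])).symm

include he in
theorem exists_lift {Y : Scheme.{u}} {g : Y ⟶ Spec (CommRingCat.of R)}
    (hg : BlowUp.IsEffCartierIdeal ((ctr f).comap g)) : ∃ h : Y ⟶ Z.left, h ≫ Z.hom = g := by
  choose W i hyW hnzd hdiv using exists_local_gen f hg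
  choose p hp hpu using fun y => unique_local f he (W y) (i y) (hnzd y) (hdiv y)
  let k : ∀ y, (W y).1.toScheme ⟶ Z.left := fun y => (W y).2.isoSpec.hom ≫ p y
  have hk : ∀ y, k y ≫ Z.hom = (W y).1.ι ≫ g := fun y => by
    simp only [k, Category.assoc, hp, IsAffineOpen.isoSpec_hom_fromSpec_assoc]
  let 𝒰 := Y.openCoverOfIsOpenCover (fun y => (W y).1)
    (top_le_iff.mp fun y _ => TopologicalSpace.Opens.mem_iSup.mpr ⟨y, hyW y⟩)
  refine ⟨𝒰.glueMorphisms k fun y z => ?_, 𝒰.hom_ext _ _ fun y => ?_⟩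
  · have : IsOpenImmersion (pullback.fst (𝒰.f y) (𝒰.f z) ≫ (W y).1.ι) :=
      inferInstanceAs (IsOpenImmersion (pullback.fst (W y).1.ι (W z).1.ι ≫ (W y).1.ι))
    refine hom_ext f he (g := (pullback.fst (𝒰.f y) (𝒰.f z) ≫ (W y).1.ι) ≫ g) ?_ _ _ ?_ ?_
    · rw [Scheme.IdealSheafData.comap_comp]
      exact BlowUpLib.isEffCartier_comap_flat _ hg
    · exact (Category.assoc _ _ _).trans ((congrArg (pullback.fst (𝒰.f y) (𝒰.f z) ≫ ·) (hk y)).trans
        (Category.assoc _ _ _).symm)
    · exact (Category.assoc _ _ _).trans ((congrArg (pullback.snd (𝒰.f y) (𝒰.f z) ≫ ·) (hk z)).trans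
        ((Category.assoc _ _ _).symm.trans (congrArg (· ≫ g) pullback.condition.symm)))
  · rw [𝒰.ι_glueMorphisms_assoc]; exact hk y

include he in
/-- A scheme representing the Grassmannian functor is the blowing up. -/
theorem isBlowUp (hf : CAlgX.IsH1Regular f) : BlowUp.IsBlowUp Z.hom (ctr f) := by
  refine ⟨isEffCartier_comap f he hf, fun Y g hg => ?_⟩
  obtain ⟨h, hh⟩ := exists_lift f he hg
  exact ⟨h, hh, fun h' hh' => hom_ext f he hg h' h hh' hh⟩

end Groth.Agent.BlowUp95.GrassBlowUp
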