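import Groth.Agent.QCoh.VanIdeal
import Groth.Agent.QCoh.ExtendFT

/-!
# Ideals of finite type with prescribed support on quasi-compact quasi-separated schemes
-/

universe u

set_option backward.isDefEq.respectTransparency false
set_option backward.isDefEq.respectTransparency.types false

open CategoryTheory CategoryTheory.Limits AlgebraicGeometry TopologicalSpace Opposite
open Groth.Agent.QCoh

namespace Groth.Agent.BlowUp95

variable {X : Scheme.{u}} {Z : Set X} (N : SubMod (vanIdeal (X := X) Z).toModules)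

/-- Sections of a submodule of the vanishing ideal as functions. -/
noncomputable def toFnLin (U : X.Opens) : N.mem U →ₗ[Γ(X, U)] Γ(X, U) where
  toFun s := toFn ((vanIdeal (X := X) Z).ι.app U s.1)
  map_add' s t := by
    show toFn ((vanIdeal (X := X) Z).ι.app U (s.1 + t.1)) = _
    rw [map_add]
  map_smul' r s := by
    show toFn ((vanIdeal (X := X) Z).ι.app U (r • s.1)) = _
    rw [Scheme.Modules.Hom.app_smul]; rfl

theorem mem_range_toFnLin {U : X.Opens} {a : Γ(X, U)} :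
    a ∈ LinearMap.range (toFnLin N U) ↔
      ∃ s ∈ N.mem U, toFn ((vanIdeal (X := X) Z).ι.app U s) = a :=
  ⟨fun ⟨s, hs⟩ ↦ ⟨s.1, s.2, hs⟩, fun ⟨s, hs, h⟩ ↦ ⟨⟨s, hs⟩, h⟩⟩

/-- The ideal sheaf of a submodule of finite type of the vanishing ideal. -/
theorem exists_idealSheaf (hN : FTOn N ⊤) :
    ∃ I : X.IdealSheafData, (∀ V : X.affineOpens, (I.ideal V).FG) ∧
      (∀ V : X.affineOpens, ∀ a ∈ I.ideal V, ∀ z ∈ Z, z ∉ X.basicOpen a) ∧
      ∀ (V : X.affineOpens) (s : Γ((vanIdeal (X := X) Z).toModules, V.1)), s ∈ N.mem V.1 →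
        toFn ((vanIdeal (X := X) Z).ι.app V.1 s) ∈ I.ideal V := by
  have hG := isQCoh_vanIdeal (X := X) Z
  have hqc := isQCoh_of_ftOn hG hN
  have hft := isFT_of_ftOn hG hN
  have hcomp (U : X.Opens) (t : N.mem U) {V : X.Opens} (h : V ≤ U) :
      toFnLin N V ⟨_, N.map_mem h t.2⟩ = X.presheaf.map (homOfLE h).op (toFnLin N U t) := by
    show toFn ((vanIdeal (X := X) Z).ι.app V (rs _ h t.1)) = _
    rw [rs, map_app_comm]
    rfl
  let I : X.IdealSheafData :=
  { ideal := fun V ↦ LinearMap.range (toFnLin N V.1)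
    map_ideal_basicOpen := fun U f ↦ by
      apply le_antisymm
      · rw [Ideal.map_le_iff_le_comap]
        rintro _ ⟨t, rfl⟩
        exact ⟨⟨_, N.map_mem (X.basicOpen_le f) t.2⟩, hcomp _ t _⟩
      · rintro _ ⟨s, rfl⟩
        obtain ⟨n, t, ht⟩ := exists_pow_smul_eq_map hqc U.2 f (show Γ(N.toModules, X.basicOpen f) from s)
        let ρ := (X.presheaf.map (homOfLE (X.basicOpen_le f)).op).hom
        have hu : IsUnit (ρ f ^ n) := ((X.toRingedSpace.isUnit_res_basicOpen f).pow n)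
        rw [← Ideal.unit_mul_mem_iff_mem _ hu]
        let t' : N.mem U.1 := t
        have h1 : (⟨_, N.map_mem (X.basicOpen_le f) t'.2⟩ : N.mem (X.basicOpen f)) = ρ f ^ n • s := by
          refine Subtype.ext ?_
          exact congrArg (fun z : Γ(N.toModules, X.basicOpen f) ↦ N.ι.app _ z) ht
        have h2 := hcomp U.1 t' (X.basicOpen_le f)
        rw [h1, map_smul, smul_eq_mul] at h2
        exact Eq.subst (motive := fun z ↦ z ∈ Ideal.map ρ (LinearMap.range (toFnLin N U.1)))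
          h2.symm (Ideal.mem_map_of_mem ρ ⟨t', rfl⟩) }
  refine ⟨I, fun V ↦ ?_, fun V a ha z hz ↦ ?_, fun V s hs ↦ ⟨⟨s, hs⟩, rfl⟩⟩
  · have h1 : (N.mem V.1).FG := by
      rw [← Module.Finite.iff_fg]
      exact finite_of_isFT hqc hft V.2
    have : Module.Finite Γ(X, V.1) (N.mem V.1) := Module.Finite.iff_fg.2 h1
    show (LinearMap.range (toFnLin N V.1)).FG
    exact LinearMap.range_eq_map (toFnLin N V.1) ▸ (Module.Finite.fg_top).map _
  · obtain ⟨s, rfl⟩ := ha
    exact (vanIdeal (X := X) Z).ι_app_mem _ s.1 z hz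

/-- A closed set with quasi-compact complement is the support of an ideal of finite type. -/
theorem exists_fg_ideal_support [CompactSpace X] [QuasiSeparatedSpace X] (Z : Set X)
    (hZ : IsClosed Z) (hc : IsCompact Zᶜ) :
    ∃ I : X.IdealSheafData, (∀ V : X.affineOpens, (I.ideal V).FG) ∧ (I.support : Set X) = Z := by
  classical
  obtain ⟨F, hF⟩ := isCompact_univ.elim_finite_subcover (fun V : X.affineOpens => (V.1 : Set X))
    (fun V => V.1.2) fun x _ => by
      obtain ⟨_, ⟨V, hV, rfl⟩, hxV, -⟩ := X.isBasis_affineOpens.exists_subset_of_mem_open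
        (Set.mem_univ x) isOpen_univ
      exact Set.mem_iUnion.2 ⟨⟨V, hV⟩, hxV⟩
  have hW : ∀ W : X.affineOpens, ∃ I : X.IdealSheafData, (∀ V : X.affineOpens, (I.ideal V).FG) ∧
      Z ⊆ (I.support : Set X) ∧ (I.support : Set X) ∩ W.1 ⊆ Z := by
    intro W
    have hK : IsCompact ((W.1 : Set X) ∩ Zᶜ) :=
      QuasiSeparatedSpace.inter_isCompact _ _ W.1.2 W.2.isCompact hZ.isOpen_compl hc
    have hf : ∀ x : ((W.1 : Set X) ∩ Zᶜ : Set X), ∃ f : Γ(X, W.1),
        (X.basicOpen f : Set X) ⊆ Zᶜ ∧ x.1 ∈ X.basicOpen f := fun x ↦ by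
      obtain ⟨f, hf, hx⟩ := W.2.exists_basicOpen_le (V := ⟨Zᶜ, hZ.isOpen_compl⟩) ⟨x.1, x.2.2⟩ x.2.1
      exact ⟨f, hf, hx⟩
    choose f hfZ hxf using hf
    obtain ⟨t, ht⟩ := hK.elim_finite_subcover (fun x ↦ (X.basicOpen (f x) : Set X))
      (fun x ↦ (X.basicOpen (f x)).2) fun x hx ↦ Set.mem_iUnion.2 ⟨⟨x, hx⟩, hxf _⟩
    have hmem : ∀ x, f x ∈ (vanIdeal (X := X) Z).mem W.1 := fun x z hz hzf ↦ hfZ x hzf hz
    choose g hg using fun x ↦ (vanIdeal (X := X) Z).exists_app_eq (hmem x)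
    obtain ⟨N, hN, hTN⟩ := exists_ftOn_contains (isQCoh_vanIdeal (X := X) Z) W.2
      (extStep_qcqs W.2.isCompact) (g '' t) (t.finite_toSet.image g)
    obtain ⟨I, hI1, hI2, hI3⟩ := exists_idealSheaf N hN
    refine ⟨I, hI1, fun z hz ↦ ?_, fun z hz ↦ ?_⟩
    · obtain ⟨_, ⟨V, hV, rfl⟩, hzV, -⟩ := X.isBasis_affineOpens.exists_subset_of_mem_open
        (Set.mem_univ z) isOpen_univ
      rw [SetLike.mem_coe, Scheme.IdealSheafData.mem_support_iff_of_mem (U := ⟨V, hV⟩) hzV,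
        Scheme.mem_zeroLocus_iff]
      exact fun a ha ↦ hI2 ⟨V, hV⟩ a ha z hz
    · by_contra hzZ
      obtain ⟨x, hx, hzx⟩ := Set.mem_iUnion₂.1 (ht ⟨hz.2, hzZ⟩)
      have h1 := (Scheme.IdealSheafData.mem_support_iff_of_mem (U := W) hz.2).1 hz.1
      rw [Scheme.mem_zeroLocus_iff] at h1
      exact h1 (f x) (hg x ▸ hI3 W (g x) (hTN ⟨x, hx, rfl⟩)) hzx
  choose I hIfg hIZ hIW using hW
  refine ⟨F.sup I, ?_, subset_antisymm ?_ ?_⟩
  · refine Finset.sup_induction (p := fun J : X.IdealSheafData ↦ ∀ V : X.affineOpens, (J.ideal V).FG)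
      (fun V ↦ by rw [Scheme.IdealSheafData.ideal_bot, Pi.bot_apply]; exact Submodule.fg_bot)
      (fun a ha b hb V ↦ by
        rw [Scheme.IdealSheafData.ideal_sup, Pi.sup_apply]; exact Submodule.FG.sup (ha V) (hb V))
      fun W _ ↦ hIfg W
  · intro z hz
    obtain ⟨W, hW, hzW⟩ := Set.mem_iUnion₂.1 (hF (Set.mem_univ z))
    exact hIW W ⟨Scheme.IdealSheafData.support_antitone (Finset.le_sup hW) hz, hzW⟩
  · exact Finset.sup_induction (p := fun J : X.IdealSheafData ↦ Z ⊆ (J.support : Set X))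
      (fun z _ ↦ by rw [Scheme.IdealSheafData.support_bot]; trivial)
      (fun a ha b hb z hz ↦ by
        rw [Scheme.IdealSheafData.support_sup]; exact ⟨ha hz, hb hz⟩) fun W _ ↦ hIZ W

end Groth.Agent.BlowUp95
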