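import Groth.Agent.BlowUp95.BaseChange
import Groth.Agent.CAlgOdd.H1Regular

/-!
# Affine blow-up algebras and Tor-independent base change
-/

universe u

open TensorProduct Groth.Agent.BlowUpLib MvPolynomial

namespace Groth.Agent.BlowUp95

variable {A B : Type u} [CommRing A] [CommRing B] [Algebra A B]

/-- `x ⊗ b ↦ x b`. -/
noncomputable def mulTensor (J : Ideal A) : ↥J ⊗[A] B →ₗ[A] B :=
  TensorProduct.lift ((LinearMap.mul A B).comp ((Algebra.linearMap A B).comp J.subtype))

theorem mulTensor_tmul (J : Ideal A) (x : J) (b : B) :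
    mulTensor J (x ⊗ₜ b) = algebraMap A B x * b := rfl

/-- If the image of `f` is `H₁`-regular then `Tor₁(A/Iⁿ, B) = 0`. -/
theorem mulTensor_injective_of_h1 {c : ℕ} (f : Fin c → A)
    (hf : CAlgX.IsH1Regular fun i ↦ algebraMap A B (f i)) (n : ℕ) :
    Function.Injective (mulTensor (B := B) (Ideal.span (Set.range f) ^ n)) := by
  classical
  set I := Ideal.span (Set.range f)
  let G : Fin c → reesAlgebra I := fun i ↦ gen I ⟨f i, Ideal.subset_span ⟨i, rfl⟩⟩
  let Ψ : MvPolynomial (Fin c) B →+* reesAlgebra I ⊗[A] B :=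
    eval₂Hom (Algebra.TensorProduct.includeRight : B →ₐ[A] reesAlgebra I ⊗[A] B).toRingHom
      (fun i ↦ G i ⊗ₜ 1)
  let ι : ↥(I ^ n) →ₗ[A] reesAlgebra I :=
    { toFun := fun x ↦ ⟨Polynomial.monomial n (x : A), reesAlgebra.monomial_mem.mpr x.2⟩
      map_add' := fun x y ↦ Subtype.ext (map_add _ _ _)
      map_smul' := fun r x ↦ Subtype.ext ((Polynomial.monomial n).map_smul r (x : A)) }
  let κ : reesAlgebra I →ₗ[A] ↥(I ^ n) :=
    ((Polynomial.lcoeff A n).comp (reesAlgebra I).val.toLinearMap).codRestrict _ fun p ↦ p.2 n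
  have hκ : κ.comp ι = LinearMap.id :=
    LinearMap.ext fun x ↦ Subtype.ext (Polynomial.coeff_monomial_same n (x : A))
  have hinj : Function.Injective (ι.rTensor B) := by
    refine Function.LeftInverse.injective (g := κ.rTensor B) fun w ↦ ?_
    rw [← LinearMap.rTensor_comp_apply, hκ, LinearMap.rTensor_id_apply]
  have hG : ∀ Q : MvPolynomial (Fin c) A, Q.IsHomogeneous n →
      (aeval G Q : reesAlgebra I).1 = Polynomial.monomial n (eval f Q) := fun Q hQ ↦ by
    conv_lhs => rw [Q.as_sum, map_sum]
    conv_rhs => rw [Q.as_sum, map_sum, map_sum]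
    rw [AddSubmonoidClass.coe_finsetSum]
    refine Finset.sum_congr rfl fun d hd ↦ ?_
    have hd' : d.degree = n := by
      rw [Finsupp.degree_eq_weight_one]; exact hQ (mem_support_iff.mp hd)
    rw [aeval_monomial, eval_monomial, Subalgebra.coe_mul, Finsupp.prod, Finsupp.prod,
      SubmonoidClass.coe_finset_prod]
    simp only [SubmonoidClass.coe_pow]
    show Polynomial.C (coeff d Q) * ∏ i ∈ d.support, Polynomial.monomial 1 (f i) ^ d i = _
    simp only [Polynomial.monomial_pow, one_mul]
    simp only [← Polynomial.C_mul_X_pow_eq_monomial, Finset.prod_mul_distrib,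
      Finset.prod_pow_eq_pow_sum, ← map_prod]
    rw [← mul_assoc, ← map_mul, ← hd']
    rfl
  have key : ∀ w : ↥(I ^ n) ⊗[A] B, ∃ P : MvPolynomial (Fin c) B, P.IsHomogeneous n ∧
      Ψ P = ι.rTensor B w ∧ eval (fun i ↦ algebraMap A B (f i)) P = mulTensor (I ^ n) w := by
    intro w
    induction w with
    | zero => exact ⟨0, isHomogeneous_zero _ _ _, by simp, by simp⟩
    | tmul x b =>
      obtain ⟨Q, hQ, hev⟩ := (Ideal.mem_span_pow_iff_exists_isHomogeneous f _).mp x.2
      refine ⟨MvPolynomial.C b * MvPolynomial.map (algebraMap A B) Q, (hQ.map _).C_mul _, ?_, ?_⟩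
      · rw [map_mul, eval₂Hom_C, LinearMap.rTensor_tmul]
        have h1 : Ψ (MvPolynomial.map (algebraMap A B) Q) = (aeval G Q) ⊗ₜ[A] (1 : B) := by
          have : Ψ.comp (MvPolynomial.map (algebraMap A B)) =
              (Algebra.TensorProduct.includeLeftRingHom :
                reesAlgebra I →+* reesAlgebra I ⊗[A] B).comp (aeval G).toRingHom := by
            refine MvPolynomial.ringHom_ext (fun r ↦ ?_) fun i ↦ ?_
            · show Ψ (MvPolynomial.map (algebraMap A B) (MvPolynomial.C r)) = (aeval G (MvPolynomial.C r)) ⊗ₜ[A] (1 : B)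
              rw [map_C, eval₂Hom_C, aeval_C, Algebra.algebraMap_eq_smul_one, Algebra.algebraMap_eq_smul_one,
                TensorProduct.smul_tmul]
              rfl
            · show Ψ (MvPolynomial.map (algebraMap A B) (X i)) = (aeval G (X i)) ⊗ₜ[A] (1 : B)
              rw [map_X, eval₂Hom_X', aeval_X]
          exact RingHom.congr_fun this Q
        rw [h1]
        show (1 : reesAlgebra I) ⊗ₜ[A] b * _ = _
        rw [Algebra.TensorProduct.tmul_mul_tmul, one_mul, mul_one]
        congr 1
        exact Subtype.ext ((hG Q hQ).trans (by rw [hev]; rfl))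
      · rw [mulTensor_tmul, map_mul, eval_C, eval_map, ← hev, eval₂_comp, mul_comm]
        rfl
    | add x y hx hy =>
      obtain ⟨P, hP, h1, h2⟩ := hx
      obtain ⟨P', hP', h1', h2'⟩ := hy
      exact ⟨P + P', hP.add hP', by rw [map_add, map_add, h1, h1'],
        by rw [map_add, map_add, h2, h2']⟩
  rw [injective_iff_map_eq_zero]
  intro w hw
  obtain ⟨P, hP, h1, h2⟩ := key w
  have hk : CAlgOdd.H1Regular.kosz (fun i ↦ algebraMap A B (f i)) ≤ RingHom.ker Ψ := by
    refine Ideal.span_le.2 ?_
    rintro _ ⟨p, q, rfl⟩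
    have e : ∀ (r : A) (i : Fin c), Ψ (MvPolynomial.C (algebraMap A B r) * X i) = (r • G i) ⊗ₜ 1 := fun r i ↦ by
      rw [map_mul, eval₂Hom_C, eval₂Hom_X']
      show (1 : reesAlgebra I) ⊗ₜ[A] algebraMap A B r * _ = _
      rw [Algebra.TensorProduct.tmul_mul_tmul, one_mul, mul_one, Algebra.algebraMap_eq_smul_one,
        ← TensorProduct.smul_tmul]
    rw [SetLike.mem_coe, RingHom.mem_ker, map_sub, e, e, ← TensorProduct.sub_tmul]
    have : f q • G p - f p • G q = 0 := Subtype.ext (by
      show f q • Polynomial.monomial 1 (f p) - f p • Polynomial.monomial 1 (f q) = 0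
      rw [Polynomial.smul_monomial, Polynomial.smul_monomial, smul_eq_mul, smul_eq_mul, mul_comm,
        sub_self])
    rw [this, TensorProduct.zero_tmul]
  apply hinj
  rw [map_zero, ← h1]
  exact hk (CAlgOdd.H1Regular.mem_kosz _ hf n P hP (h2.trans hw))

/-- The equation of the exceptional divisor stays regular when the powers of the centre are
`Tor`-independent of `B`. -/
theorem tensor_mem_nonZeroDivisors {I : Ideal A} (a : I)
    (h : ∀ n, Function.Injective (mulTensor (B := B) (I ^ n))) :
    algebraMap A (BlowUp.affineAlgebra A I (a : A)) a ⊗ₜ[A] (1 : B) ∈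
      nonZeroDivisors (BlowUp.affineAlgebra A I (a : A) ⊗[A] B) := by
  let φ := algebraMap A B
  let L := Localization.Away (φ a)
  let g₀ : Localization.Away (a : A) →ₐ[A] L :=
    { (Localization.awayMap φ (a : A)) with
      commutes' := fun r ↦ IsLocalization.map_eq _ r }
  let g : BlowUp.affineAlgebra A I (a : A) ⊗[A] B →ₐ[A] L :=
    Algebra.TensorProduct.lift (g₀.comp (BlowUp.affineAlgebra A I (a : A)).val)
      (IsScalarTower.toAlgHom A B L) fun _ _ ↦ Commute.all _ _
  have hu : IsUnit (algebraMap B L (φ a)) := IsLocalization.Away.algebraMap_isUnit _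
  have hg : ∀ (n : ℕ) (w : ↥(I ^ n) ⊗[A] B),
      g ((divPow a n).rTensor B w) * algebraMap B L (φ a) ^ n = algebraMap B L (mulTensor (I ^ n) w) := by
    intro n w
    induction w with
    | zero => simp
    | tmul x b =>
      rw [LinearMap.rTensor_tmul, Algebra.TensorProduct.lift_tmul, mulTensor_tmul, map_mul,
        AlgHom.comp_apply]
      show g₀ (divPow a n x : Localization.Away (a : A)) * algebraMap B L b * _ = _
      have e : IsScalarTower.toAlgHom A B L (φ a) = g₀ (algebraMap A _ (a : A)) := by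
        rw [g₀.commutes, IsScalarTower.toAlgHom_apply, ← IsScalarTower.algebraMap_apply]
      rw [coe_divPow, map_mul, g₀.commutes, map_pow, ← IsScalarTower.toAlgHom_apply A B L (φ a), e,
        mul_right_comm _ (algebraMap B L b), mul_assoc (algebraMap A L (x : A)), ← mul_pow, ← map_mul,
        mul_comm (IsLocalization.Away.invSelf (a : A)), IsLocalization.Away.mul_invSelf, map_one,
        one_pow, mul_one, IsScalarTower.algebraMap_apply A B L (x : A)]
    | add x y hx hy => simp only [map_add, add_mul, hx, hy]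
  have hex : ∀ z : BlowUp.affineAlgebra A I (a : A) ⊗[A] B,
      ∃ n w, (divPow a n).rTensor B w = z := by
    intro z
    induction z with
    | zero => exact ⟨0, 0, map_zero _⟩
    | tmul q b =>
      obtain ⟨n, x, rfl⟩ := exists_divPow a q
      exact ⟨n, x ⊗ₜ b, rfl⟩
    | add x y hx hy =>
      obtain ⟨n, w, rfl⟩ := hx
      obtain ⟨m, v, rfl⟩ := hy
      refine ⟨max n m, (shift a (le_max_left n m)).rTensor B w +
        (shift a (le_max_right n m)).rTensor B v, ?_⟩
      rw [map_add, ← LinearMap.rTensor_comp_apply, ← LinearMap.rTensor_comp_apply,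
        show (divPow a (max n m)).comp (shift a (le_max_left n m)) = divPow a n from
          LinearMap.ext (divPow_comp_shift a _),
        show (divPow a (max n m)).comp (shift a (le_max_right n m)) = divPow a m from
          LinearMap.ext (divPow_comp_shift a _)]
  refine mem_nonZeroDivisors_iff_right.2 fun z hz ↦ ?_
  obtain ⟨n, w, rfl⟩ := hex z
  have h0 := congrArg g hz
  rw [map_mul, map_zero, Algebra.TensorProduct.lift_tmul, AlgHom.commutes, map_one, mul_one,
    IsScalarTower.algebraMap_apply A B L] at h0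
  have h1 : g ((divPow a n).rTensor B w) = 0 := hu.mul_left_eq_zero.1 h0
  have h2 := hg n w
  rw [h1, zero_mul, eq_comm, IsLocalization.map_eq_zero_iff (Submonoid.powers (φ a))] at h2
  obtain ⟨⟨_, k, rfl⟩, hk⟩ := h2
  have h3 : ∀ v : ↥(I ^ n) ⊗[A] B, mulTensor (I ^ (n + k)) ((shift a (Nat.le_add_right n k)).rTensor B v)
      = φ a ^ k * mulTensor (I ^ n) v := fun v ↦ by
    induction v with
    | zero => simp
    | tmul x b =>
      rw [LinearMap.rTensor_tmul, mulTensor_tmul, mulTensor_tmul, coe_shift, Nat.add_sub_cancel_left,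
        map_mul, map_pow, mul_assoc]
    | add x y hx hy => simp only [map_add, mul_add, hx, hy]
  have h4 : (shift a (Nat.le_add_right n k)).rTensor B w = 0 :=
    h (n + k) (((h3 w).trans hk).trans (map_zero _).symm)
  rw [← show (divPow a (n + k)).comp (shift a (Nat.le_add_right n k)) = divPow a n from
      LinearMap.ext (divPow_comp_shift a _), LinearMap.rTensor_comp_apply, h4, map_zero]

end Groth.Agent.BlowUp95
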