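import Groth.Agent.BlowUp95.PowerFlat
import Groth.Agent.RingPO.BaseChange

/-!
# Pinching an effective Cartier divisor is undone by blowing up
-/

universe u

open CategoryTheory Limits AlgebraicGeometry RingPO

namespace Groth.Agent.BlowUp95

section Ring

variable {A A' B Q : Type u} [CommRing A] [CommRing A'] [CommRing B] [CommRing Q]
  {p : A' →+* Q} {q : B →+* Q} {α : A →+* A'} {β : A →+* B} (h : IsFibreProd p q α β)
include h

theorem pinch_mem {x : A'} (hx : x ∈ RingHom.ker p) : ∃ z ∈ RingHom.ker β, α z = x := by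
  obtain ⟨z, hz, hzb⟩ := h.exists_of_eq 0 x (by rw [map_zero]; exact hx)
  exact ⟨z, hzb, hz⟩

theorem pinch_map : (RingHom.ker β).map α = RingHom.ker p := by
  refine le_antisymm (Ideal.map_le_iff_le_comap.2 fun z hz ↦ ?_) fun x hx ↦ ?_
  · show p (α z) = 0
    rw [h.comm, show β z = 0 from hz, map_zero]
  · obtain ⟨z, hz, rfl⟩ := pinch_mem h hx
    exact Ideal.mem_map_of_mem α hz

theorem pinch_inj {z z' : A} (hz : z ∈ RingHom.ker β) (hz' : z' ∈ RingHom.ker β) (e : α z = α z') :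
    z = z' :=
  h.ext z z' e ((show β z = 0 from hz).trans (show β z' = 0 from hz').symm)

theorem pinch_pow_mem {n : ℕ} {x : A'} (hx : x ∈ RingHom.ker p ^ (n + 1)) :
    ∃ z ∈ RingHom.ker β ^ (n + 1), α z = x := by
  induction n generalizing x with
  | zero =>
    rw [zero_add, pow_one] at hx ⊢
    exact pinch_mem h hx
  | succ n ih =>
    rw [pow_succ] at hx
    refine Submodule.mul_induction_on hx (fun y hy w hw ↦ ?_) fun y w hy hw ↦ ?_
    · obtain ⟨z, hz, rfl⟩ := ih hy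
      obtain ⟨z', hz', rfl⟩ := pinch_mem h hw
      exact ⟨z * z', by rw [pow_succ _ (n + 1)]; exact Ideal.mul_mem_mul hz hz', map_mul α z z'⟩
    · obtain ⟨z, hz, rfl⟩ := hy
      obtain ⟨z', hz', rfl⟩ := hw
      exact ⟨z + z', add_mem hz hz', map_add α z z'⟩

/-- Maps out of the pinched ring extend uniquely once the centre becomes invertible. -/
theorem pinch_existsUnique {R : Type u} [CommRing R] (φ : A →+* R) {a : A} (ha : a ∈ RingHom.ker β)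
    (hφ : φ a ∈ nonZeroDivisors R) (hI : (RingHom.ker β).map φ = Ideal.span {φ a}) :
    ∃! ψ : A' →+* R, ψ.comp α = φ := by
  have hmem : ∀ x : A', α a * x ∈ RingHom.ker p := fun x ↦ by
    rw [← pinch_map h]; exact Ideal.mul_mem_right _ _ (Ideal.mem_map_of_mem α ha)
  choose τ hτ hατ using fun x ↦ pinch_mem h (hmem x)
  have hdiv : ∀ x, ∃ r, r * φ a = φ (τ x) := fun x ↦
    Ideal.mem_span_singleton'.1 (hI ▸ Ideal.mem_map_of_mem φ (hτ x))
  choose ρ hρ using hdiv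
  have hc : ∀ r r' : R, r * φ a = r' * φ a → r = r' := fun r r' e ↦
    sub_eq_zero.1 (mem_nonZeroDivisors_iff_right.1 hφ _ (by rw [sub_mul, e, sub_self]))
  have hτα : ∀ z, τ (α z) = a * z := fun z ↦
    pinch_inj h (hτ _) (Ideal.mul_mem_right _ _ ha) (by rw [hατ, map_mul])
  have hadd : ∀ x y, τ (x + y) = τ x + τ y := fun x y ↦
    pinch_inj h (hτ _) (add_mem (hτ _) (hτ _)) (by rw [hατ, map_add, hατ, hατ, mul_add])
  have hmul : ∀ x y, τ (x * y) * a = τ x * τ y := fun x y ↦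
    pinch_inj h (Ideal.mul_mem_right _ _ (hτ _)) (Ideal.mul_mem_right _ _ (hτ _))
      (by rw [map_mul, map_mul, hατ, hατ, hατ]; ring)
  let ψ : A' →+* R :=
    { toFun := ρ
      map_one' := hc _ _ (by rw [hρ, ← map_one α, hτα, mul_one, one_mul])
      map_zero' := hc _ _ (by rw [hρ, ← map_zero α, hτα, mul_zero, map_zero, zero_mul])
      map_add' := fun x y ↦ hc _ _ (by rw [hρ, hadd, map_add, add_mul, hρ, hρ])
      map_mul' := fun x y ↦ hc _ _ (hc _ _ (by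
        rw [hρ, ← map_mul, hmul, map_mul, ← hρ x, ← hρ y]; ring)) }
  refine ⟨ψ, RingHom.ext fun z ↦ hc _ _ ?_, fun ψ' hψ' ↦ RingHom.ext fun x ↦ hc _ _ ?_⟩
  · show ρ (α z) * φ a = φ z * φ a
    rw [hρ, hτα, map_mul, mul_comm]
  · show ψ' x * φ a = ρ x * φ a
    rw [hρ, ← hψ', RingHom.comp_apply, RingHom.comp_apply, hατ, ← map_mul, mul_comm]

theorem pinch_flat {R : Type u} [CommRing R] [Algebra R A] [Algebra R A']
    (hcomp : ∀ r, α (algebraMap R A r) = algebraMap R A' r)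
    (h1 : ∀ n, Module.Flat R (A' ⧸ RingHom.ker p ^ n))
    (h2 : Module.Flat R (A ⧸ RingHom.ker β)) (n : ℕ) :
    Module.Flat R (A ⧸ RingHom.ker β ^ (n + 1)) := by
  let I := RingHom.ker β
  let J := RingHom.ker p
  have hle : I ^ (n + 1) ≤ I := Ideal.pow_le_self n.succ_ne_zero
  have hle' : J ^ (n + 1) ≤ J := Ideal.pow_le_self n.succ_ne_zero
  let αₐ : A →ₐ[R] A' := { α with commutes' := hcomp }
  have hIJ : ∀ z ∈ I ^ (n + 1), α z ∈ J ^ (n + 1) := fun z hz ↦ by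
    rw [show J = (RingHom.ker β).map α from (pinch_map h).symm, ← Ideal.map_pow]
    exact Ideal.mem_map_of_mem α hz
  let g : (A ⧸ I ^ (n + 1)) →ₗ[R] A ⧸ I := (Submodule.factor hle).restrictScalars R
  let g' : (A' ⧸ J ^ (n + 1)) →ₗ[R] A' ⧸ J := (Submodule.factor hle').restrictScalars R
  let θ : (A ⧸ I ^ (n + 1)) →ₐ[R] A' ⧸ J ^ (n + 1) :=
    Ideal.Quotient.liftₐ (I ^ (n + 1)) ((Ideal.Quotient.mkₐ R (J ^ (n + 1))).comp αₐ) fun z hz ↦
      Ideal.Quotient.eq_zero_iff_mem.2 (hIJ z hz)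
  have hθ : ∀ y : LinearMap.ker g, θ y.1 ∈ LinearMap.ker g' := fun y ↦ by
    obtain ⟨y, hy⟩ := y
    obtain ⟨z, rfl⟩ := Ideal.Quotient.mk_surjective y
    have hz : z ∈ I := Ideal.Quotient.eq_zero_iff_mem.1 hy
    refine Ideal.Quotient.eq_zero_iff_mem.2 (?_ : α z ∈ J)
    exact (pinch_map h).le (Ideal.mem_map_of_mem α hz)
  let θ' : LinearMap.ker g →ₗ[R] LinearMap.ker g' :=
    (θ.toLinearMap.comp (LinearMap.ker g).subtype).codRestrict _ hθ
  have hθ' : Function.Bijective θ' := by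
    constructor
    · rw [injective_iff_map_eq_zero]
      rintro ⟨y, hy⟩ he
      obtain ⟨z, rfl⟩ := Ideal.Quotient.mk_surjective y
      have hz : z ∈ I := Ideal.Quotient.eq_zero_iff_mem.1 hy
      obtain ⟨z', hz', he'⟩ := pinch_pow_mem h
        (Ideal.Quotient.eq_zero_iff_mem.1 (congrArg Subtype.val he) : α z ∈ J ^ (n + 1))
      refine Subtype.ext (Ideal.Quotient.eq_zero_iff_mem.2 ?_)
      rw [pinch_inj h hz (hle hz') he'.symm]
      exact hz'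
    · rintro ⟨y, hy⟩
      obtain ⟨x, rfl⟩ := Ideal.Quotient.mk_surjective y
      obtain ⟨z, hz, rfl⟩ := pinch_mem h (Ideal.Quotient.eq_zero_iff_mem.1 hy : x ∈ J)
      exact ⟨⟨Ideal.Quotient.mk _ z, Ideal.Quotient.eq_zero_iff_mem.2 hz⟩, rfl⟩
  have hJ : Module.Flat R (A' ⧸ J) := by
    have := h1 1
    rwa [pow_one] at this
  have := h1 (n + 1)
  have : Module.Flat R (LinearMap.ker g') :=
    CAlgUI.flat_left_of_ui (CAlgUI.ui_of_flat_quotient (f := (LinearMap.ker g').subtype) (g := g')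
      Subtype.val_injective (LinearMap.exact_subtype_ker_map g') (Submodule.factor_surjective hle'))
  have : Module.Flat R (LinearMap.ker g) :=
    Module.Flat.of_linearEquiv (LinearEquiv.ofBijective θ' hθ')
  exact CAlgUI.flat_middle (f := (LinearMap.ker g).subtype) (g := g) Subtype.val_injective
    (LinearMap.exact_subtype_ker_map g) (Submodule.factor_surjective hle)

end Ring

variable {S Xt Dt D X : Scheme.{u}} {ι : Dt ⟶ Xt} [IsClosedImmersion ι] {h : Dt ⟶ D}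
  {b : Xt ⟶ X} [IsAffineHom b] {j : D ⟶ X} [IsClosedImmersion j]

/-- The fibre product square over an affine open. -/
theorem exists_pinch (hP : IsPushout ι h b j) (U : X.affineOpens) :
    ∃ (Q : Type u) (_ : CommRing Q) (p : Γ(Xt, b ⁻¹ᵁ U.1) →+* Q) (q : Γ(D, j ⁻¹ᵁ U.1) →+* Q),
      IsFibreProd p q (b.app U.1).hom (j.app U.1).hom ∧
        ι.ker.ideal ⟨b ⁻¹ᵁ U.1, U.2.preimage b⟩ = RingHom.ker p ∧
        j.ker.ideal U = RingHom.ker (j.app U.1).hom := by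
  have hh := isFibreProd_of_affineOpen hP (fun y ↦ chart_of_affineHom hP.w y) U.2
  rw [← Scheme.Hom.app_eq_appLE, ← Scheme.Hom.app_eq_appLE] at hh
  refine ⟨_, inferInstance, _, _, hh, ?_, j.ker_apply U⟩
  show _ = RingHom.ker (ι.appLE (b ⁻¹ᵁ U.1) (ι ⁻¹ᵁ (b ⁻¹ᵁ U.1)) le_rfl).hom
  rw [← Scheme.Hom.app_eq_appLE]
  exact ι.ker_apply ⟨b ⁻¹ᵁ U.1, U.2.preimage b⟩

theorem comap_ker (hP : IsPushout ι h b j) : j.ker.comap b = ι.ker := by
  refine Scheme.IdealSheafData.ext_of_iSup_eq_top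
    (fun U : X.affineOpens ↦ ⟨b ⁻¹ᵁ U.1, U.2.preimage b⟩) ?_ fun U ↦ ?_
  · exact top_le_iff.1 fun z _ ↦ by
      obtain ⟨_, ⟨U, hU, rfl⟩, hz, -⟩ := X.isBasis_affineOpens.exists_subset_of_mem_open
        (Set.mem_univ (b z)) isOpen_univ
      exact TopologicalSpace.Opens.mem_iSup.2 ⟨⟨U, hU⟩, hz⟩
  obtain ⟨Q, _, p, q, hh, h1, h2⟩ := exists_pinch hP U
  rw [ModPairLib.ideal_comap _ b U ⟨_, U.2.preimage b⟩ le_rfl, ← Scheme.Hom.app_eq_appLE, h1, h2]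
  exact pinch_map hh

theorem isBlowUp_pinch (hP : IsPushout ι h b j) (hι : BlowUp.IsEffCartierIdeal ι.ker) :
    BlowUp.IsBlowUp b j.ker := by
  refine ⟨by rw [comap_ker hP]; exact hι, fun Y g hg ↦ ?_⟩
  have key : ∀ y : Y, ∃ (W : Y.Opens) (U : X.affineOpens), y ∈ W ∧ W ≤ g ⁻¹ᵁ U.1 ∧ IsAffineOpen W ∧
      ∃! w : Spec Γ(Y, W) ⟶ Xt, ∃ hW : IsAffineOpen W, w ≫ b = hW.fromSpec ≫ g := fun y ↦ by
    obtain ⟨_, ⟨U, hU, rfl⟩, hxU, -⟩ := X.isBasis_affineOpens.exists_subset_of_mem_open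
      (Set.mem_univ (g y)) isOpen_univ
    obtain ⟨W, e, hyW, c, hc, hWc⟩ := ModPairLib.exists_chart_blowUp hg y ⟨U, hU⟩ hxU
    obtain ⟨Q, _, p, q, hh, -, h2⟩ := exists_pinch hP ⟨U, hU⟩
    refine ⟨W.1, ⟨U, hU⟩, hyW, e, W.2, ?_⟩
    set φ := (g.appLE U W.1 e).hom
    have hI : (RingHom.ker (j.app U).hom).map φ = Ideal.span {φ c} := by
      rw [← h2, ← hWc, ModPairLib.ideal_comap _ g ⟨U, hU⟩ W e]
    obtain ⟨ψ, hψ, huψ⟩ := pinch_existsUnique hh φ (h2 ▸ hc)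
      (ModPairLib.generator_mem_nonZeroDivisors hg hWc) hI
    refine ⟨Spec.map (CommRingCat.ofHom ψ) ≫ (hU.preimage b).fromSpec, ⟨W.2, ?_⟩, ?_⟩
    · rw [Category.assoc, ← IsAffineOpen.SpecMap_appLE_fromSpec b hU (hU.preimage b) le_rfl,
        ← Spec.map_comp_assoc, ← IsAffineOpen.SpecMap_appLE_fromSpec g hU W.2 e,
        ← Scheme.Hom.app_eq_appLE]
      congr 2
      exact CommRingCat.hom_ext hψ
    · rintro w ⟨hW, hw⟩
      have hr : Set.range w ⊆ (b ⁻¹ᵁ U : Set Xt) := by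
        rintro _ ⟨s, rfl⟩
        show b (w s) ∈ U
        rw [← Scheme.Hom.comp_apply, hw]
        exact e (hW.range_fromSpec.le ⟨s, rfl⟩)
      obtain ⟨χ, hχ⟩ : ∃ χ : Γ(Xt, b ⁻¹ᵁ U) ⟶ Γ(Y, W.1),
          Spec.map χ ≫ (hU.preimage b).fromSpec = w := by
        let l := IsOpenImmersion.lift (hU.preimage b).fromSpec w
          (by rw [(hU.preimage b).range_fromSpec]; exact hr)
        exact ⟨Spec.preimage l, by rw [Spec.map_preimage]; exact IsOpenImmersion.lift_fac _ _ _⟩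
      subst hχ
      congr 2
      refine CommRingCat.hom_ext (huψ χ.hom ?_)
      rw [Category.assoc, ← IsAffineOpen.SpecMap_appLE_fromSpec b hU (hU.preimage b) le_rfl,
        ← Spec.map_comp_assoc, ← IsAffineOpen.SpecMap_appLE_fromSpec g hU W.2 e,
        cancel_mono, ← Scheme.Hom.app_eq_appLE] at hw
      exact congrArg CommRingCat.Hom.hom (Spec.map_injective hw)
  choose W U hyW hWU hW w hw hu using key
  let 𝒰 : Y.OpenCover :=
    { I₀ := Y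
      X := fun y ↦ Spec Γ(Y, W y)
      f := fun y ↦ (hW y).fromSpec
      mem₀ := by
        rw [Scheme.presieve₀_mem_precoverage_iff]
        exact ⟨fun y ↦ ⟨y, by rw [(hW y).range_fromSpec]; exact hyW y⟩, fun _ ↦ inferInstance⟩ }
  have huniq : ∀ {Z : Scheme.{u}} (r : Z ⟶ Y) [IsOpenImmersion r] (l l' : Z ⟶ Xt),
      l ≫ b = r ≫ g → l' ≫ b = r ≫ g → l = l' := by
    intro Z r _ l l' hl hl'
    have hZ : BlowUp.IsEffCartierIdeal (j.ker.comap (r ≫ g)) := by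
      rw [Scheme.IdealSheafData.comap_comp]; exact BlowUpLib.isEffCartier_comap_flat r hg
    refine Scheme.hom_ext_of_forall _ _ fun z ↦ ?_
    obtain ⟨_, ⟨U, hU, rfl⟩, hxU, -⟩ := X.isBasis_affineOpens.exists_subset_of_mem_open
      (Set.mem_univ ((r ≫ g) z)) isOpen_univ
    obtain ⟨W', e, hzW, c, hc, hWc⟩ := ModPairLib.exists_chart_blowUp hZ z ⟨U, hU⟩ hxU
    obtain ⟨Q, _, p, q, hh, -, h2⟩ := exists_pinch hP ⟨U, hU⟩
    refine ⟨W'.1, hzW, ?_⟩
    have hI : (RingHom.ker (j.app U).hom).map ((r ≫ g).appLE U W'.1 e).hom =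
        Ideal.span {((r ≫ g).appLE U W'.1 e).hom c} := by
      rw [← h2, ← hWc, ModPairLib.ideal_comap _ _ ⟨U, hU⟩ W' e]
    obtain ⟨ψ, -, huψ⟩ := pinch_existsUnique hh _ (h2 ▸ hc)
      (ModPairLib.generator_mem_nonZeroDivisors hZ hWc) hI
    have step : ∀ (k : Z ⟶ Xt), k ≫ b = r ≫ g → ∃ e' : W'.1 ≤ k ⁻¹ᵁ (b ⁻¹ᵁ U),
        (k.appLE (b ⁻¹ᵁ U) W'.1 e').hom = ψ := fun k hk ↦ by
      refine ⟨by rw [← Scheme.Hom.comp_preimage, hk]; exact e, huψ _ ?_⟩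
      dsimp only
      rw [← CommRingCat.hom_comp, Scheme.Hom.app_eq_appLE, Scheme.Hom.appLE_comp_appLE]
      simp only [hk]
    obtain ⟨e1, h1⟩ := step l hl
    obtain ⟨e1', h1'⟩ := step l' hl'
    rw [← cancel_epi W'.2.isoSpec.inv, W'.2.isoSpec_inv_ι_assoc, W'.2.isoSpec_inv_ι_assoc,
      ← IsAffineOpen.SpecMap_appLE_fromSpec l (hU.preimage b) W'.2 e1,
      ← IsAffineOpen.SpecMap_appLE_fromSpec l' (hU.preimage b) W'.2 e1',
      CommRingCat.hom_ext (h1.trans h1'.symm)]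
  have hwb : ∀ y, w y ≫ b = (hW y).fromSpec ≫ g := fun y ↦ (hw y).choose_spec
  have hcomp : ∀ x y, pullback.fst (𝒰.f x) (𝒰.f y) ≫ w x = pullback.snd (𝒰.f x) (𝒰.f y) ≫ w y :=
    fun x y ↦ by
    have : IsOpenImmersion (pullback.fst (𝒰.f x) (𝒰.f y) ≫ 𝒰.f x) :=
      inferInstanceAs (IsOpenImmersion (pullback.fst (hW x).fromSpec (hW y).fromSpec ≫ (hW x).fromSpec))
    refine huniq (pullback.fst (𝒰.f x) (𝒰.f y) ≫ 𝒰.f x) _ _ ?_ ?_
    · rw [Category.assoc, hwb, Category.assoc]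
    · rw [Category.assoc, hwb, pullback.condition, Category.assoc]
  have hgl : 𝒰.glueMorphisms w hcomp ≫ b = g :=
    𝒰.hom_ext _ _ fun y ↦ by rw [𝒰.ι_glueMorphisms_assoc]; exact hwb y
  exact ⟨_, hgl, fun h' hh' ↦ huniq (𝟙 Y) _ _ (by rw [Category.id_comp]; exact hh')
    (by rw [Category.id_comp]; exact hgl)⟩

theorem flat_pow_pinch (hP : IsPushout ι h b j) (hι : BlowUp.IsEffCartierIdeal ι.ker) (sX : X ⟶ S)
    [Flat (j ≫ sX)] [Flat (ι ≫ b ≫ sX)] (n : ℕ) : Flat ((j.ker ^ (n + 1)).subschemeι ≫ sX) := by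
  have e1 : Flat (ι.ker.subschemeι ≫ b ≫ sX) := by
    have h1 : Flat (ι.toImage ≫ ι.imageι ≫ b ≫ sX) := by
      rw [Scheme.Hom.toImage_imageι_assoc]; infer_instance
    rwa [MorphismProperty.cancel_left_of_respectsIso @Flat] at h1
  have e2 : Flat (j.ker.subschemeι ≫ sX) := by
    have h1 : Flat (j.toImage ≫ j.imageι ≫ sX) := by
      rw [Scheme.Hom.toImage_imageι_assoc]; infer_instance
    rwa [MorphismProperty.cancel_left_of_respectsIso @Flat] at h1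
  refine flat_subscheme_of_local sX _ fun x ↦ ?_
  obtain ⟨_, ⟨S₀, hS₀, rfl⟩, hs, -⟩ := S.isBasis_affineOpens.exists_subset_of_mem_open
    (Set.mem_univ (sX x)) isOpen_univ
  obtain ⟨_, ⟨U, hU, rfl⟩, hxU, e⟩ := X.isBasis_affineOpens.exists_subset_of_mem_open
    (show x ∈ (sX ⁻¹ᵁ S₀ : Set X) from hs) (sX ⁻¹ᵁ S₀).isOpen
  refine ⟨⟨S₀, hS₀⟩, ⟨U, hU⟩, e, hxU, ?_⟩
  let := (sX.appLE S₀ U e).hom.toAlgebra
  have e' : b ⁻¹ᵁ U ≤ (b ≫ sX) ⁻¹ᵁ S₀ := fun z hz ↦ e hz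
  let := ((b ≫ sX).appLE S₀ (b ⁻¹ᵁ U) e').hom.toAlgebra
  obtain ⟨Q, _, p, q, hh, h1, h2⟩ := exists_pinch hP ⟨U, hU⟩
  rw [Scheme.IdealSheafData.ideal_pow, Pi.pow_apply, h2]
  refine pinch_flat hh (fun r ↦ ?_) (fun m ↦ ?_) ?_ n
  · show ((sX.appLE S₀ U e) ≫ b.app U).hom r = _
    rw [Scheme.Hom.app_eq_appLE, Scheme.Hom.appLE_comp_appLE]
    rfl
  · have := flat_quotient_of_flat (b ≫ sX) (ι.ker ^ m) (flat_pow_of_cartier (b ≫ sX) hι e1 m)
      ⟨S₀, hS₀⟩ ⟨b ⁻¹ᵁ U, hU.preimage b⟩ e'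
    rwa [Scheme.IdealSheafData.ideal_pow, Pi.pow_apply, h1] at this
  · have := flat_quotient_of_flat sX j.ker e2 ⟨S₀, hS₀⟩ ⟨U, hU⟩ e
    rwa [h2] at this

end Groth.Agent.BlowUp95
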