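import Groth.Agent.CAlgUI.Flat
import Groth.Agent.BlowUpLib.Glue
import Mathlib.AlgebraicGeometry.Morphisms.Flat

/-!
# Flatness of closed subschemes on affine opens; powers of an effective Cartier ideal
-/

universe u

open CategoryTheory Limits AlgebraicGeometry

namespace Groth.Agent.BlowUp95

variable {X S : Scheme.{u}}

theorem flat_quotient_of_flat (g : X ⟶ S) (K : X.IdealSheafData) (hfl : Flat (K.subschemeι ≫ g))
    (S₀ : S.affineOpens) (U : X.affineOpens) (e : U.1 ≤ g ⁻¹ᵁ S₀.1) :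
    letI := (g.appLE S₀.1 U.1 e).hom.toAlgebra
    Module.Flat Γ(S, S₀.1) (Γ(X, U.1) ⧸ K.ideal U) := by
  set ι := K.subschemeι with hι
  let := (g.appLE S₀.1 U.1 e).hom.toAlgebra
  have eW : ι ⁻¹ᵁ U.1 ≤ (ι ≫ g) ⁻¹ᵁ S₀.1 := fun x hx ↦ e hx
  have hW : IsAffineOpen (ι ⁻¹ᵁ U.1) := U.2.preimage ι
  have hf := HasRingHomProperty.appLE @Flat _ hfl S₀ ⟨_, hW⟩ eW
  have hdec : (ι ≫ g).appLE S₀.1 (ι ⁻¹ᵁ U.1) eW = g.appLE S₀.1 U.1 e ≫ ι.app U.1 := by
    rw [Scheme.Hom.app_eq_appLE, Scheme.Hom.appLE_comp_appLE]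
  rw [hdec, CommRingCat.hom_comp] at hf
  let := ((ι.app U.1).hom.comp (algebraMap Γ(S, S₀.1) Γ(X, U.1))).toAlgebra
  have : Module.Flat Γ(S, S₀.1) Γ(K.subscheme, ι ⁻¹ᵁ U.1) := hf
  let p : Γ(X, U.1) →ₐ[Γ(S, S₀.1)] Γ(K.subscheme, ι ⁻¹ᵁ U.1) :=
    { (ι.app U.1).hom with commutes' := fun _ ↦ rfl }
  have hp : Function.Surjective p := K.subschemeι_app_surjective U
  have hk : RingHom.ker p = K.ideal U := K.ker_subschemeι_app U
  exact Module.Flat.of_linearEquiv ((Ideal.quotientEquivAlgOfEq Γ(S, S₀.1) hk.symm).trans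
    (Ideal.quotientKerAlgEquivOfSurjective hp)).toLinearEquiv

theorem flat_subscheme_of_local (g : X ⟶ S) (K : X.IdealSheafData)
    (h : ∀ x : X, ∃ (S₀ : S.affineOpens) (U : X.affineOpens) (e : U.1 ≤ g ⁻¹ᵁ S₀.1), x ∈ U.1 ∧
      letI := (g.appLE S₀.1 U.1 e).hom.toAlgebra
      Module.Flat Γ(S, S₀.1) (Γ(X, U.1) ⧸ K.ideal U)) :
    Flat (K.subschemeι ≫ g) := by
  have key : ∀ z : K.subscheme, ∃ (Q : Scheme.{u}) (q : Q ⟶ K.subscheme),
      IsOpenImmersion q ∧ z ∈ Set.range q ∧ Flat (q ≫ K.subschemeι ≫ g) := fun z ↦ by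
    obtain ⟨S₀, U, e, hz, hflat⟩ := h (K.subschemeι z)
    refine ⟨_, K.subschemeCover.f U, inferInstance, ?_, ?_⟩
    · have h1 : z ∈ (K.subschemeCover.f U).opensRange := by
        rw [K.opensRange_subschemeCover_map U]; exact hz
      exact h1
    let := (g.appLE S₀.1 U.1 e).hom.toAlgebra
    have : Flat (Spec.map (CommRingCat.ofHom (algebraMap Γ(S, S₀.1) (Γ(X, U.1) ⧸ K.ideal U)))) :=
      HasRingHomProperty.Spec_iff.2 (RingHom.flat_algebraMap_iff.2 hflat)
    have hq : K.subschemeCover.f U ≫ K.subschemeι ≫ g =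
        Spec.map (CommRingCat.ofHom (Ideal.Quotient.mk (K.ideal U))) ≫ U.2.fromSpec ≫ g :=
      ((Category.assoc _ _ _).symm.trans (congrArg (fun m ↦ m ≫ g)
        ((K.subschemeCover_map_subschemeι U).trans (K.glueDataObjι_ι U)))).trans (Category.assoc _ _ _)
    show Flat (K.subschemeCover.f U ≫ K.subschemeι ≫ g)
    refine hq ▸ ?_
    rw [
      ← IsAffineOpen.SpecMap_appLE_fromSpec g S₀.2 U.2 e, ← Spec.map_comp_assoc,
      show g.appLE S₀.1 U.1 e ≫ CommRingCat.ofHom (Ideal.Quotient.mk (K.ideal U)) =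
        CommRingCat.ofHom (algebraMap Γ(S, S₀.1) (Γ(X, U.1) ⧸ K.ideal U)) from rfl]
    exact MorphismProperty.comp_mem @Flat _ _ this (inferInstanceAs (Flat S₀.2.fromSpec))
  choose Q q hq hp hQ using key
  let 𝒰 : K.subscheme.OpenCover :=
    { I₀ := K.subscheme
      X := Q
      f := q
      mem₀ := by
        rw [Scheme.presieve₀_mem_precoverage_iff]
        exact ⟨fun x ↦ ⟨x, hp x⟩, hq⟩ }
  exact IsZariskiLocalAtSource.of_openCover 𝒰 hQ

theorem flat_quotient_pow_of_regular {R B : Type u} [CommRing R] [CommRing B] [Algebra R B] (t : B)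
    (ht : t ∈ nonZeroDivisors B) (h : Module.Flat R (B ⧸ Ideal.span {t})) :
    ∀ n, Module.Flat R (B ⧸ Ideal.span {t} ^ n) := by
  intro n
  induction n with
  | zero =>
    have : Subsingleton (B ⧸ Ideal.span {t} ^ 0) :=
      Ideal.Quotient.subsingleton_iff.2 (by rw [pow_zero, Ideal.one_eq_top])
    infer_instance
  | succ n ih =>
    have hle : Ideal.span {t} ^ (n + 1) ≤ Ideal.span {t} ^ n := Ideal.pow_le_pow_right n.le_succ
    let f : (B ⧸ Ideal.span {t}) →ₗ[B] B ⧸ Ideal.span {t} ^ (n + 1) :=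
      Submodule.mapQ _ _ (LinearMap.mulLeft B (t ^ n)) fun x hx ↦ by
        obtain ⟨c, rfl⟩ := Ideal.mem_span_singleton'.1 hx
        show t ^ n * (c * t) ∈ Ideal.span {t} ^ (n + 1)
        rw [Ideal.span_singleton_pow]
        exact Ideal.mem_span_singleton'.2 ⟨c, by ring⟩
    let g : (B ⧸ Ideal.span {t} ^ (n + 1)) →ₗ[B] B ⧸ Ideal.span {t} ^ n := Submodule.factor hle
    refine CAlgUI.flat_middle (f := f.restrictScalars R) (g := g.restrictScalars R) ?_ ?_
      (Submodule.factor_surjective hle)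
    · show Function.Injective f
      rw [injective_iff_map_eq_zero]
      intro y hy
      obtain ⟨x, rfl⟩ := Submodule.Quotient.mk_surjective _ y
      have h1 : t ^ n * x ∈ Ideal.span {t} ^ (n + 1) := (Submodule.Quotient.mk_eq_zero _).1 hy
      rw [Ideal.span_singleton_pow] at h1
      obtain ⟨c, hc⟩ := Ideal.mem_span_singleton'.1 h1
      refine (Submodule.Quotient.mk_eq_zero _).2 (Ideal.mem_span_singleton'.2 ⟨c, ?_⟩)
      refine sub_eq_zero.1 (mem_nonZeroDivisors_iff_right.1 (pow_mem ht n) _ ?_)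
      linear_combination hc
    · show Function.Exact f g
      intro y
      obtain ⟨x, rfl⟩ := Submodule.Quotient.mk_surjective _ y
      constructor
      · intro hy
        have h1 : x ∈ Ideal.span {t} ^ n := (Submodule.Quotient.mk_eq_zero _).1 hy
        rw [Ideal.span_singleton_pow] at h1
        obtain ⟨c, rfl⟩ := Ideal.mem_span_singleton'.1 h1
        exact ⟨Submodule.Quotient.mk c, congrArg Submodule.Quotient.mk (mul_comm (t ^ n) c)⟩
      · rintro ⟨z, hz⟩
        obtain ⟨c, rfl⟩ := Submodule.Quotient.mk_surjective _ z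
        rw [← hz]
        refine (Submodule.Quotient.mk_eq_zero _).2 ?_
        rw [Ideal.span_singleton_pow]
        exact Ideal.mem_span_singleton'.2 ⟨c, mul_comm _ _⟩

/-- The powers of an effective Cartier ideal define flat subschemes if the first does. -/
theorem flat_pow_of_cartier (g : X ⟶ S) {K : X.IdealSheafData} (hK : BlowUp.IsEffCartierIdeal K)
    (h1 : Flat (K.subschemeι ≫ g)) (n : ℕ) : Flat ((K ^ n).subschemeι ≫ g) := by
  refine flat_subscheme_of_local g (K ^ n) fun x ↦ ?_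
  obtain ⟨U, hxU, t, ht, hI⟩ := hK x
  obtain ⟨_, ⟨S₀, hS₀, rfl⟩, hs, -⟩ := S.isBasis_affineOpens.exists_subset_of_mem_open
    (Set.mem_univ (g x)) isOpen_univ
  obtain ⟨r, hr, hxr⟩ := U.2.exists_basicOpen_le (V := g ⁻¹ᵁ S₀) ⟨x, hs⟩ hxU
  let D : X.affineOpens := ⟨X.basicOpen r, U.2.basicOpen r⟩
  refine ⟨⟨S₀, hS₀⟩, D, hr, hxr, ?_⟩
  let := (g.appLE S₀ D.1 hr).hom.toAlgebra
  set t' := (X.presheaf.map (homOfLE (X.basicOpen_le r)).op).hom t
  have hD : K.ideal D = Ideal.span {t'} := by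
    rw [← K.map_ideal (U := D) (X.basicOpen_le r), hI, Ideal.map_span, Set.image_singleton]; rfl
  have ht' := ModPairLib.generator_mem_nonZeroDivisors hK hD
  have h2 := flat_quotient_of_flat g K h1 ⟨S₀, hS₀⟩ D hr
  rw [hD] at h2
  rw [Scheme.IdealSheafData.ideal_pow, Pi.pow_apply, hD]
  exact flat_quotient_pow_of_regular t' ht' h2 n

end Groth.Agent.BlowUp95
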