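import Groth.Agent.DimFormula.EquidimSub
import Groth.Agent.Cat15.Order
import Groth.Agent.BlowUpX.Basic
import Groth.Agent.DimFormula.ClosedSub

/-!
# Codimension along effective Cartier divisors
-/

universe u

open CategoryTheory AlgebraicGeometry Order Groth.Agent.DimFormula

namespace Groth.Agent.BlowUp95

variable {X : Scheme.{u}} [IsLocallyNoetherian X]

theorem exists_saturated {η x : X} (h : η ⤳ x) :
    ∃ s : RelSeries {(a, b) : X × X | a ⋖ b}, s.head = x ∧ s.last = η ∧ s.length = cd η x := by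
  obtain ⟨l, hl0, hl1, hl⟩ := exists_cd_series h
  have hlast : l.last = η := by
    by_contra hne
    have hlt : l.last < η :=
      lt_of_le_not_ge (α := X) hl1 fun h'' => hne (eq_of_specializes_of_specializes h'' hl1)
    have := le_cd h (l.snoc η hlt) (by rw [RelSeries.head_snoc]; exact hl0)
      (by rw [RelSeries.last_snoc])
    rw [RelSeries.snoc_length, hl] at this
    omega
  refine ⟨⟨l.length, l.toFun, fun i ↦ ⟨l.step i, fun z h1 h2 ↦ ?_⟩⟩, hl0, hlast, hl⟩
  have := le_cd h (l.insertNth i z h1 h2) ?_ ?_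
  · rw [RelSeries.insertNth_length, hl] at this
    omega
  · rw [← hl0]
    show i.castSucc.succ.insertNth (α := fun _ ↦ ↥X) z l.toFun 0 = l.toFun 0
    conv_lhs => rw [← Fin.succAbove_ne_zero_zero (a := i.castSucc.succ) (Fin.succ_ne_zero _)]
    rw [Fin.insertNth_apply_succAbove]
  · rw [← hlast]
    refine specializes_of_eq ?_
    show l.toFun (Fin.last _) = i.castSucc.succ.insertNth (α := fun _ ↦ ↥X) z l.toFun (Fin.last _)
    conv_rhs => rw [← Fin.succAbove_ne_last_last (a := i.castSucc.succ) (by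
      simp only [ne_eq, Fin.ext_iff, Fin.val_succ, Fin.val_castSucc, Fin.val_last]; omega)]
    rw [Fin.insertNth_apply_succAbove]

/-- Additivity of codimensions for catenary schemes. -/
theorem cd_add (hcat : Cat15.PCat X) {ζ η x : X} (h : η ⤳ x) (h' : ζ ⤳ η) :
    cd η x + cd ζ η = cd ζ x := by
  obtain ⟨a, ha0, ha1, ha⟩ := exists_saturated h
  obtain ⟨b, hb0, hb1, hb⟩ := exists_saturated h'
  obtain ⟨c, hc0, hc1, hc⟩ := exists_saturated (h'.trans h)
  let toLT (s : RelSeries {(a, b) : X × X | a ⋖ b}) : LTSeries X :=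
    ⟨s.length, s.toFun, fun i ↦ (s.step i).lt⟩
  let ab := a.smash b (ha1.trans hb0.symm)
  have hh : ab.head = c.head := by rw [RelSeries.head_smash, ha0, hc0]
  have hl : ab.last = c.last := by rw [RelSeries.last_smash, hb1, hc1]
  have := hcat.2 (toLT ab) (toLT c) hh hl ab.step c.step
  rw [show (toLT c).length = c.length from rfl, show (toLT ab).length = ab.length from rfl,
    RelSeries.smash_length, ha, hb, hc] at this
  exact this

/-- A point of an effective Cartier divisor has positive codimension. -/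
theorem one_le_codim {D : X.IdealSheafData} (hD : BlowUp.IsEffCartierIdeal D) {y : X}
    (hy : y ∈ (D.support : Set X)) : 1 ≤ codim y := by
  by_contra h
  exact BlowUpX.notMem_support_of_generic hD y (codim_eq_zero_iff.1 (by omega)) hy

/-- A maximal point of an effective Cartier divisor has codimension at most one. -/
theorem codim_le_one {D : X.IdealSheafData} (hD : BlowUp.IsEffCartierIdeal D) {y : X}
    (hy : y ∈ (D.support : Set X)) (hmax : ∀ z, z ⤳ y → z ∈ (D.support : Set X) → z = y) :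
    codim y ≤ 1 := by
  obtain ⟨U, hyU, a, -, ha⟩ := hD y
  obtain ⟨P, rfl⟩ := VarDim.exists_fromSpec_eq U.2 hyU
  haveI : IsNoetherianRing Γ(X, U.1) := IsLocallyNoetherian.component_noetherian U
  have key : ∀ Q : PrimeSpectrum Γ(X, U.1),
      U.2.fromSpec Q ∈ (D.support : Set X) ↔ a ∈ Q.asIdeal := fun Q => by
    rw [SetLike.mem_coe,
      Scheme.IdealSheafData.mem_support_iff_of_mem (U := U) (VarDim.fromSpec_mem U.2 Q)]
    have h2 : Q ∈ U.2.fromSpec ⁻¹' X.zeroLocus (U := U.1) (D.ideal U) ↔ a ∈ Q.asIdeal := by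
      rw [U.2.fromSpec_preimage_zeroLocus, ha, PrimeSpectrum.zeroLocus_span]
      exact (PrimeSpectrum.mem_zeroLocus Q _).trans Set.singleton_subset_iff
    exact h2
  have hP : P.asIdeal ∈ (Ideal.span {a}).minimalPrimes := by
    refine ⟨⟨P.isPrime, Ideal.span_le.2 (Set.singleton_subset_iff.2 ((key P).1 hy))⟩,
      fun J hJ hJP => ?_⟩
    have := hmax (U.2.fromSpec (⟨J, hJ.1⟩ : PrimeSpectrum Γ(X, U.1)))
      ((VarDim.fromSpec_specializes_iff U.2 ⟨J, hJ.1⟩ P).2 hJP)
      ((key ⟨J, hJ.1⟩).2 (hJ.2 (Ideal.mem_span_singleton_self a)))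
    exact (congrArg PrimeSpectrum.asIdeal (U.2.fromSpec.isOpenEmbedding.injective this)).ge
  have h1 := Ideal.height_le_one_of_isPrincipal_of_mem_minimalPrimes (Ideal.span {a}) P.asIdeal hP
  have h2 := (ringKrullDim_stalk (U.2.fromSpec P)).symm.trans
    (VarDim.ringKrullDim_stalk_fromSpec U.2 P)
  rw [PrimeSpectrum.height_eq_orderHeight] at h1
  have h3 : (codim (U.2.fromSpec P) : ℕ∞) = height P := by exact_mod_cast h2
  rw [← h3] at h1
  exact_mod_cast h1

/-- Every point of an effective Cartier divisor is a specialization of a maximal one. -/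
theorem exists_maximal {D : X.IdealSheafData} {y : X} (hy : y ∈ (D.support : Set X)) :
    ∃ y₀, y₀ ∈ (D.support : Set X) ∧ ∀ z, z ⤳ y₀ → z ∈ (D.support : Set X) → z = y₀ := by
  classical
  have hex : ∃ n, ∃ w, w ∈ (D.support : Set X) ∧ codim w = n := ⟨_, y, hy, rfl⟩
  obtain ⟨w, hw, hn⟩ := Nat.find_spec hex
  refine ⟨w, hw, fun z hz hzD ↦ ?_⟩
  by_contra hne
  have h1 := codim_mono_add hz
  have h2 : cd z w ≠ 0 := fun e ↦ hne ((cd_eq_zero_iff hz).1 e)
  have h3 := Nat.find_min' hex ⟨z, hzD, rfl⟩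
  omega

theorem iInf_dim_ge {D : X.IdealSheafData} (hD : BlowUp.IsEffCartierIdeal D) :
    ((1 : ℕ) : WithBot ℕ∞) ≤ ⨅ y : (D.support : Set X), ringKrullDim (X.presheaf.stalk y.1) := by
  refine le_iInf fun y ↦ ?_
  rw [ringKrullDim_stalk]
  exact_mod_cast one_le_codim hD y.2

theorem iInf_dim_eq {D : X.IdealSheafData} (hD : BlowUp.IsEffCartierIdeal D) {y : X}
    (hy : y ∈ (D.support : Set X)) :
    (⨅ z : (D.support : Set X), ringKrullDim (X.presheaf.stalk z.1)) = ((1 : ℕ) : WithBot ℕ∞) := by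
  refine le_antisymm ?_ (iInf_dim_ge hD)
  obtain ⟨y₀, hy₀, hmax⟩ := exists_maximal hy
  refine (iInf_le _ ⟨y₀, hy₀⟩).trans ?_
  rw [ringKrullDim_stalk]
  exact_mod_cast codim_le_one hD hy₀ hmax

end Groth.Agent.BlowUp95
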