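import Groth.Agent.BlowUp95.Strict
import Groth.Agent.BlowUp95.IdealExist
import Groth.Agent.IdSheafPow.Basic

/-!
# Separating closed subsets by blowing up
-/

universe u

open CategoryTheory Limits AlgebraicGeometry TopologicalSpace ModPairLib

namespace Groth.Agent.BlowUp95

/-- After blowing up `𝔞 ⊇ J`, with `𝔞·O_Z ⊆ J·O_Z + IG`, the closure of the part of `V(IG)` off
the centre does not meet the closure of the part of `V(J)` off the centre. -/
theorem separate {X Z X' : Scheme.{u}} (p : Z ⟶ X) {𝔞 J : X.IdealSheafData} (IG : Z.IdealSheafData)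
    (hJ : J ≤ 𝔞) (hle : 𝔞.comap p ≤ J.comap p ⊔ IG) {π : X' ⟶ X} (hπ : BlowUp.IsBlowUp π 𝔞)
    (T : Set X) (hT : T ⊆ (J.support : Set X)) (hT' : ∀ x ∈ T, x ∉ (𝔞.support : Set X))
    (S : Set Z) (hS : S ⊆ (IG.support : Set Z)) (hS' : ∀ s ∈ S, p s ∉ (𝔞.support : Set X))
    (z : ↥(pullback p π)) (hz : pullback.snd p π z ∈ closure (π ⁻¹' T))
    (hz' : z ∈ closure (pullback.fst p π ⁻¹' S)) : False := by
  have hE := isLocPrincipal_of_isEffCartier hπ.1
  set E := 𝔞.comap π with hEdef
  set g := pullback.fst p π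
  set p' := pullback.snd p π
  set Q := colon (J.comap π) E hE
  have e1 : Q * E = J.comap π := colon_mul hπ.1 (le_sup_comap π hJ)
  have hcl : closure (π ⁻¹' T) ⊆ (Q.support : Set X') := by
    refine closure_minimal (fun x' hx' ↦ ?_) (Closeds.isClosed _)
    have h3 : x' ∈ ((Q * E).support : Set X') := by
      rw [e1, Scheme.IdealSheafData.support_comap]; exact hT hx'
    rw [Scheme.IdealSheafData.support_mul] at h3
    refine h3.resolve_right fun hxE ↦ ?_
    rw [hEdef, Scheme.IdealSheafData.support_comap] at hxE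
    exact hT' _ hx' hxE
  set S' := g ⁻¹' S
  set K := Scheme.IdealSheafData.vanishingIdeal ⟨closure S', isClosed_closure⟩
  have hd : ∀ s ∈ S', s ∉ ((E.comap p').support : Set _) := by
    intro s hs hsE
    rw [Scheme.IdealSheafData.support_comap, hEdef, Scheme.IdealSheafData.support_comap] at hsE
    refine hS' _ hs ?_
    rw [← Scheme.Hom.comp_apply, pullback.condition, Scheme.Hom.comp_apply]
    exact hsE
  have hK : IG.comap g ≤ K := le_vanishingIdeal_closure fun s hs ↦ by
    rw [Scheme.IdealSheafData.support_comap]; exact hS hs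
  have hpush : ∀ A : X.IdealSheafData, (A.comap p).comap g = (A.comap π).comap p' := fun A ↦ by
    rw [← Scheme.IdealSheafData.comap_comp, ← Scheme.IdealSheafData.comap_comp, pullback.condition]
  have hineq : ⊤ * E.comap p' ≤ Q.comap p' * E.comap p' ⊔ K := by
    have h4 := le_sup_comap g hle
    rw [Scheme.IdealSheafData.comap_sup, hpush, hpush, ← e1, ideal_comap_mul] at h4
    exact (top_mul_le _).trans (h4.trans (sup_le_sup le_rfl hK))
  have hcanc := le_sup_of_mul_le_mul_sup (hE.comap p')
    (colon_vanishingIdeal_le (hE.comap p') _ S' le_rfl subset_closure hd) hineq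
  have h5 : z ∈ ((Q.comap p').support : Set _) := by
    rw [Scheme.IdealSheafData.support_comap]; exact hcl hz
  exact notMem_supports (top_le_iff.1 hcanc) h5 (subset_support_vanishingIdeal _ hz')

end Groth.Agent.BlowUp95
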