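import Groth.Agent.ModPairLib.Decomp
import Groth.Agent.ModPairLib.Dense
import Groth.Agent.ModPairLib.Quot
import Groth.Agent.ModPairLib.BlowUp
import Groth.Agent.BlowUpLib.Glue

/-!
# Strict transforms: sheaf-level calculus
-/

universe u

open CategoryTheory Limits AlgebraicGeometry TopologicalSpace ModPairLib

namespace Groth.Agent.BlowUp95

variable {X Y Z : Scheme.{u}}

theorem mul_le_mul' {A A' B B' : X.IdealSheafData} (hA : A ≤ A') (hB : B ≤ B') :
    A * B ≤ A' * B' := fun U ↦ by
  simp only [Scheme.IdealSheafData.ideal_mul, Pi.mul_apply]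
  exact Ideal.mul_mono (hA U) (hB U)

theorem top_mul_le (A : X.IdealSheafData) : ⊤ * A ≤ A := fun U ↦ by
  simp only [Scheme.IdealSheafData.ideal_mul, Pi.mul_apply]
  intro x hx
  exact Submodule.mul_induction_on hx (fun a _ b hb ↦ Ideal.mul_mem_left _ a hb)
    fun a b ha hb ↦ add_mem ha hb

theorem le_sup_comap {A B : X.IdealSheafData} (f : Y ⟶ X) (h : A ≤ B) : A.comap f ≤ B.comap f :=
  Scheme.IdealSheafData.comap_mono f h

theorem comap_subschemeι_self (J : X.IdealSheafData) : J.comap J.subschemeι = ⊥ := by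
  rw [eq_bot_iff, ← Scheme.IdealSheafData.le_map_iff_comap_le, Scheme.IdealSheafData.map_bot,
    Scheme.IdealSheafData.ker_subschemeι]

/-- The colon of `A` by `E` times `E` lies in `A`. -/
theorem colon_mul_le (A : X.IdealSheafData) {E : X.IdealSheafData} (hE : IsLocPrincipal E) :
    colon A E hE * E ≤ A := fun U ↦ by
  rw [Scheme.IdealSheafData.ideal_mul, Pi.mul_apply, Ideal.mul_le]
  exact fun r hr e he ↦ (mem_colon_iff hE).1 hr e he

/-- Cancelling a locally principal ideal modulo an ideal which it does not divide. -/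
theorem le_sup_of_mul_le_mul_sup {A B K E : X.IdealSheafData} (hE : IsLocPrincipal E)
    (hK : colon K E hE ≤ K) (h : A * E ≤ B * E ⊔ K) : A ≤ B ⊔ K := by
  have hE' := hE
  choose U hU a ha using hE'
  refine Scheme.IdealSheafData.le_of_iSup_eq_top U (eq_top_iff.mpr fun x _ ↦
    TopologicalSpace.Opens.mem_iSup.mpr ⟨x, hU x⟩) fun x q hq ↦ ?_
  have h1 : q * a x ∈ (B * E ⊔ K).ideal (U x) :=
    h (U x) (by
      rw [Scheme.IdealSheafData.ideal_mul, Pi.mul_apply]
      exact Ideal.mul_mem_mul hq (ha x ▸ Ideal.mem_span_singleton_self _))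
  rw [Scheme.IdealSheafData.ideal_sup, Pi.sup_apply, Scheme.IdealSheafData.ideal_mul, Pi.mul_apply,
    ha x] at h1
  obtain ⟨v, hv, w, hw, hvw⟩ := Submodule.mem_sup.1 h1
  obtain ⟨d, hd, rfl⟩ := Ideal.mem_mul_span_singleton.1 hv
  rw [Scheme.IdealSheafData.ideal_sup, Pi.sup_apply]
  refine Submodule.mem_sup.2 ⟨d, hd, q - d, hK (U x) ((mem_colon_iff _).2 fun e he ↦ ?_),
    add_sub_cancel _ _⟩
  rw [ha x] at he
  obtain ⟨c, rfl⟩ := Ideal.mem_span_singleton'.1 he
  have : (q - d) * (c * a x) = c * w := by linear_combination (-c) * hvw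
  rw [this]
  exact Ideal.mul_mem_left _ _ hw

/-- The ideal of the closure of a set avoiding a divisor is saturated for it. -/
theorem colon_vanishingIdeal_le {E : X.IdealSheafData} (hE : IsLocPrincipal E) (C : Closeds X)
    (S : Set X) (hSC : (C : Set X) ⊆ closure S) (hS : S ⊆ C) (hd : ∀ s ∈ S, s ∉ (E.support : Set X)) :
    colon (Scheme.IdealSheafData.vanishingIdeal C) E hE ≤ Scheme.IdealSheafData.vanishingIdeal C := by
  rw [← Scheme.IdealSheafData.le_support_iff_le_vanishingIdeal]
  refine hSC.trans (closure_minimal (fun s hs ↦ ?_) (Closeds.isClosed _))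
  have h1 : C ≤ (Scheme.IdealSheafData.vanishingIdeal C).support :=
    Scheme.IdealSheafData.le_support_iff_le_vanishingIdeal.2 le_rfl
  have h2 := (Scheme.IdealSheafData.support_antitone (colon_mul_le _ hE)) (h1 (hS hs))
  rw [Scheme.IdealSheafData.support_mul] at h2
  exact h2.resolve_right (hd s hs)

theorem le_vanishingIdeal_closure {A : X.IdealSheafData} {S : Set X}
    (h : ∀ s ∈ S, s ∈ (A.support : Set X)) :
    A ≤ Scheme.IdealSheafData.vanishingIdeal ⟨closure S, isClosed_closure⟩ :=
  Scheme.IdealSheafData.le_support_iff_le_vanishingIdeal.1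
    (closure_minimal h (Closeds.isClosed _))

theorem subset_support_vanishingIdeal (C : Closeds X) :
    (C : Set X) ⊆ (Scheme.IdealSheafData.vanishingIdeal C).support :=
  Scheme.IdealSheafData.le_support_iff_le_vanishingIdeal.2 le_rfl

theorem notMem_supports {A B : X.IdealSheafData} (h : A ⊔ B = ⊤) {x : X}
    (hA : x ∈ (A.support : Set X)) (hB : x ∈ (B.support : Set X)) : False := by
  have h1 := Scheme.IdealSheafData.support_sup A B
  rw [h, Scheme.IdealSheafData.support_top] at h1
  exact (show x ∈ ((⊥ : Closeds X) : Set X) from h1 ▸ (⟨hA, hB⟩ : x ∈ (A.support ⊓ B.support : Closeds X)))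

theorem mem_support_sup {A B : X.IdealSheafData} {x : X} (hA : x ∈ (A.support : Set X))
    (hB : x ∈ (B.support : Set X)) : x ∈ ((A ⊔ B).support : Set X) := by
  rw [Scheme.IdealSheafData.support_sup]; exact ⟨hA, hB⟩

theorem range_subset_support_of_comap_eq_bot {A : X.IdealSheafData} {f : Y ⟶ X}
    (h : A.comap f = ⊥) (y : Y) : f y ∈ (A.support : Set X) := by
  have h1 := Scheme.IdealSheafData.support_comap A f
  rw [h, Scheme.IdealSheafData.support_bot] at h1
  have h2 : y ∈ ((A.support.preimage f.continuous : Closeds Y) : Set Y) := h1 ▸ trivial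
  exact h2

/-- If the inverse image of `A ≤ E` vanishes and that of `E` is a divisor, the inverse image of
`A : E` vanishes. -/
theorem comap_colon_eq_bot {A E : X.IdealSheafData} (hE : IsLocPrincipal E) {k : Y ⟶ X}
    (hk : BlowUp.IsEffCartierIdeal (E.comap k)) (hA : A.comap k = ⊥) :
    (colon A E hE).comap k = ⊥ := by
  refine le_bot_iff.1 (le_of_mul_le_mul hk ?_)
  rw [← ideal_comap_mul]
  exact ((le_sup_comap k (colon_mul_le A hE)).trans hA.le).trans bot_le

/-- The open complement of a pulled back divisor, mapped along a morphism whose inverse image of it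
is a divisor, has the same kernel. -/
theorem ker_interior_ι_comp {E : X.IdealSheafData} (k : Y ⟶ X)
    (hk : BlowUp.IsEffCartierIdeal (E.comap k)) :
    ((k ⁻¹ᵁ ModPair.interior E).ι ≫ k).ker = k.ker := by
  have := isSchemeTheoreticallyDominant_interior hk
  rw [preimage_interior, ← Scheme.IdealSheafData.map_ker,
    Scheme.Hom.ker_eq_bot, Scheme.IdealSheafData.map_bot]

/-- The strict transform. -/
theorem strictTransform_props {X' Z' : Scheme.{u}} (I J : X.IdealSheafData) (b : X' ⟶ X)
    (hb : BlowUp.IsBlowUp b I) (b' : Z' ⟶ J.subscheme)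
    (hb' : BlowUp.IsBlowUp b' (I.comap J.subschemeι)) (k : Z' ⟶ X')
    (hk : k ≫ b = b' ≫ J.subschemeι) :
    IsClosedImmersion k ∧ BlowUp.IsEffCartierIdeal ((I.comap b).comap k) := by
  have hkE : BlowUp.IsEffCartierIdeal ((I.comap b).comap k) := by
    rw [← Scheme.IdealSheafData.comap_comp, hk, Scheme.IdealSheafData.comap_comp]
    exact hb'.1
  refine ⟨?_, hkE⟩
  set E := I.comap b
  let p := (J.comap b).subschemeι
  let O := ModPair.interior (E.comap p)
  have hEp : IsLocPrincipal (E.comap p) := (isLocPrincipal_of_isEffCartier hb.1).comap p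
  have := isAffineHom_interior hEp
  have hTE : BlowUp.IsEffCartierIdeal ((E.comap p).comap O.ι.imageι) :=
    isEffCartier_comap_image hEp O le_rfl
  -- the two maps
  have hJk : J.comap b ≤ k.ker := by
    rw [← Scheme.IdealSheafData.map_bot, Scheme.IdealSheafData.le_map_iff_comap_le,
      ← Scheme.IdealSheafData.comap_comp, hk, Scheme.IdealSheafData.comap_comp,
      comap_subschemeι_self, Scheme.IdealSheafData.comap_bot]
  let k₀ : Z' ⟶ (J.comap b).subscheme := IsClosedImmersion.lift p k
    (by simpa [p, Scheme.IdealSheafData.ker_subschemeι] using hJk)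
  have hk₀ : k₀ ≫ p = k := IsClosedImmersion.lift_fac _ _ _
  have hk₀E : BlowUp.IsEffCartierIdeal ((E.comap p).comap k₀) := by
    rwa [← Scheme.IdealSheafData.comap_comp, hk₀]
  have hker : O.ι.imageι.ker ≤ k₀.ker := by
    rw [← ker_interior_ι_comp k₀ hk₀E, Scheme.IdealSheafData.ker_subschemeι]
    have : (k₀ ⁻¹ᵁ O).ι ≫ k₀ = (k₀ ∣_ O) ≫ O.ι := (morphismRestrict_ι _ _).symm
    rw [this]
    exact Scheme.Hom.le_ker_comp _ _
  let s : Z' ⟶ O.ι.image := IsClosedImmersion.lift O.ι.imageι k₀ hker
  have hs : s ≫ O.ι.imageι = k₀ := IsClosedImmersion.lift_fac _ _ _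
  let q : O.ι.image ⟶ X' := O.ι.imageι ≫ p
  have hqJ : J.subschemeι.ker ≤ (q ≫ b).ker := by
    rw [Scheme.IdealSheafData.ker_subschemeι, ← Scheme.IdealSheafData.map_bot,
      Scheme.IdealSheafData.le_map_iff_comap_le]
    simp only [q, Category.assoc, Scheme.IdealSheafData.comap_comp, p, comap_subschemeι_self,
      Scheme.IdealSheafData.comap_bot, le_refl]
  let t₀ : O.ι.image ⟶ J.subscheme := IsClosedImmersion.lift J.subschemeι (q ≫ b) hqJ
  have ht₀ : t₀ ≫ J.subschemeι = q ≫ b := IsClosedImmersion.lift_fac _ _ _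
  obtain ⟨t, ht, -⟩ := hb'.2 _ t₀ (by
    rw [← Scheme.IdealSheafData.comap_comp, ht₀, Scheme.IdealSheafData.comap_comp]
    simpa [q, Scheme.IdealSheafData.comap_comp] using hTE)
  have hsq : s ≫ q = k := by rw [reassoc_of% hs, hk₀]
  have h1 : s ≫ t = 𝟙 Z' := by
    refine BlowUpLib.isBlowUp_hom_ext hb' ?_ (by rw [Category.id_comp]; exact hb'.1)
    rw [← cancel_mono J.subschemeι, Category.assoc, Category.assoc, Category.id_comp]
    erw [reassoc_of% ht]
    rw [ht₀, reassoc_of% hsq, hk]
  have h2 : t ≫ k = q := by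
    refine BlowUpLib.isBlowUp_hom_ext hb ?_ ?_
    · rw [Category.assoc, hk]
      erw [reassoc_of% ht]
      rw [ht₀]
    · rw [Scheme.IdealSheafData.comap_comp]
      simpa [q, Scheme.IdealSheafData.comap_comp] using hTE
  have h3 : t ≫ s = 𝟙 _ := by
    have : Mono q := inferInstance
    rw [← cancel_mono q, Category.assoc, Category.id_comp, hsq, h2]
  have : IsIso s := ⟨t, h1, h3⟩
  rw [← hsq]
  infer_instance

end Groth.Agent.BlowUp95
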